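import Mathlib.RingTheory.Ideal.Cotangent
import Mathlib.RingTheory.Derivation.Basic
import Mathlib.LinearAlgebra.Dual.Lemmas
import Mathlib.LinearAlgebra.Dimension.Free
import Mathlib.Algebra.DualNumber

/-!
Derivations at a rational point and the cotangent space; homomorphisms to first order extensions.
-/

set_option autoImplicit false
set_option linter.unusedSectionVars false

universe u

open IsLocalRing

noncomputable section

namespace Groth.Agent.QuotInf

variable {k O : Type u} [Field k] [CommRing O] [IsLocalRing O] [Algebra k O] [Algebra O k] [IsScalarTower k O k]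

theorem eval_algebraMap (c : k) : algebraMap O k (algebraMap k O c) = c :=
  (IsScalarTower.algebraMap_apply k O k c).symm

theorem maximalIdeal_eq_ker_eval : maximalIdeal O = RingHom.ker (algebraMap O k) :=
  (IsLocalRing.eq_maximalIdeal (RingHom.ker_isMaximal_of_surjective (algebraMap O k) fun c => ⟨_, eval_algebraMap c⟩)).symm

theorem sub_mem_maximal (r : O) : r - algebraMap k O (algebraMap O k r) ∈ maximalIdeal O := by
  rw [maximalIdeal_eq_ker_eval (k := k), RingHom.mem_ker, map_sub, eval_algebraMap, sub_self]

theorem smul_cotangent (r : O) (w : (maximalIdeal O).Cotangent) : r • w = algebraMap O k r • w := by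
  rw [← algebraMap_smul O (algebraMap O k r) w, ← sub_eq_zero, ← sub_smul]
  obtain ⟨⟨x, hx⟩, rfl⟩ := (maximalIdeal O).toCotangent_surjective w
  rw [← map_smul, Ideal.toCotangent_eq_zero, pow_two]
  exact Ideal.mul_mem_mul (sub_mem_maximal r) hx

variable (k O) in
/-- Derivations at a rational point are linear forms on the cotangent space. -/
def derDual : Derivation k O k ≃ₗ[k] Module.Dual k (maximalIdeal O).Cotangent where
  toFun D := LinearMap.restrictScalars k (show (maximalIdeal O).Cotangent →ₗ[O] k from Submodule.liftQ (maximalIdeal O • ⊤)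
    ({ toFun := fun x => D (x : O)
       map_add' := fun x y => D.map_add x y
       map_smul' := fun r x => by
        show D (r * x) = r • D x
        have hx : algebraMap O k (x : O) = 0 := by
          rw [← RingHom.mem_ker, ← maximalIdeal_eq_ker_eval (k := k)]; exact x.2
        rw [D.leibniz, Algebra.smul_def (x : O), hx, zero_mul, add_zero] } : maximalIdeal O →ₗ[O] k) (by
      rw [Submodule.smul_le]
      intro r hr x _
      rw [LinearMap.mem_ker, map_smul, Algebra.smul_def]
      rw [maximalIdeal_eq_ker_eval (k := k)] at hr
      rw [RingHom.mem_ker.1 hr, zero_mul]))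
  map_add' D D' := LinearMap.ext fun w => by
    obtain ⟨x, rfl⟩ := (maximalIdeal O).toCotangent_surjective w
    rfl
  map_smul' c D := LinearMap.ext fun w => by
    obtain ⟨x, rfl⟩ := (maximalIdeal O).toCotangent_surjective w
    rfl
  invFun L := Derivation.mk'
    { toFun := fun r => L ((maximalIdeal O).toCotangent ⟨_, sub_mem_maximal (k := k) r⟩)
      map_add' := fun r r' => by
        rw [← map_add, ← map_add]
        congr 2
        ext
        show r + r' - algebraMap k O (algebraMap O k (r + r')) = _ + _
        rw [map_add, map_add]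
        ring
      map_smul' := fun c r => by
        rw [RingHom.id_apply, ← map_smul, ← (maximalIdeal O).toCotangent.map_smul_of_tower]
        congr 2
        ext
        show c • r - algebraMap k O (algebraMap O k (c • r)) = c • (r - algebraMap k O (algebraMap O k r))
        rw [Algebra.smul_def, map_mul, eval_algebraMap, map_mul, Algebra.smul_def, mul_sub] }
    fun r r' => by
      show L _ = r • L _ + r' • L _
      rw [← algebraMap_smul k r (L _ : k), ← algebraMap_smul k r' (L _ : k), ← map_smul L, ← map_smul L, ← map_add L,
        ← smul_cotangent (k := k), ← algebraMap_smul O (algebraMap O k r') ((maximalIdeal O).toCotangent _),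
        ← map_smul, ← map_smul, ← map_add]
      congr 2
      ext
      show r * r' - algebraMap k O (algebraMap O k (r * r')) =
        r * (r' - algebraMap k O (algebraMap O k r')) + algebraMap k O (algebraMap O k r') * (r - algebraMap k O (algebraMap O k r))
      rw [map_mul, map_mul]
      ring
  left_inv D := Derivation.ext fun r => by
    show D (r - algebraMap k O (algebraMap O k r)) = D r
    rw [map_sub, D.map_algebraMap, sub_zero]
  right_inv L := LinearMap.ext fun w => by
    obtain ⟨⟨x, hx⟩, rfl⟩ := (maximalIdeal O).toCotangent_surjective w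
    show L ((maximalIdeal O).toCotangent ⟨x - algebraMap k O (algebraMap O k x), _⟩) = _
    congr 2
    ext
    show x - algebraMap k O (algebraMap O k x) = x
    rw [maximalIdeal_eq_ker_eval (k := k)] at hx
    rw [RingHom.mem_ker.1 hx, map_zero, sub_zero]

variable (k O) in
theorem finrank_derivation : Module.finrank k (Derivation k O k) =
    Module.finrank (ResidueField O) (CotangentSpace O) := by
  rw [(derDual k O).finrank_eq, Subspace.dual_finrank_eq]
  haveI : IsScalarTower k (ResidueField O) (CotangentSpace O) := IsScalarTower.of_algebraMap_smul fun c w => by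
    show Ideal.Quotient.mk _ (algebraMap k O c) • w = c • w
    obtain ⟨x, rfl⟩ := (maximalIdeal O).toCotangent_surjective w
    exact algebraMap_smul O c ((maximalIdeal O).toCotangent x)
  have hb : Function.Bijective (Algebra.linearMap k (ResidueField O)) := by
    refine ⟨(algebraMap k (ResidueField O)).injective, fun z => ?_⟩
    obtain ⟨r, rfl⟩ := IsLocalRing.residue_surjective z
    refine ⟨algebraMap O k r, ?_⟩
    show IsLocalRing.residue O (algebraMap k O (algebraMap O k r)) = _
    exact (Ideal.Quotient.eq.2 (sub_mem_maximal r)).symm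
  have h1 : Module.finrank k (ResidueField O) = 1 :=
    ((LinearEquiv.ofBijective _ hb).finrank_eq).symm.trans (Module.finrank_self k)
  have h2 := Module.finrank_mul_finrank k (ResidueField O) (CotangentSpace O)
  rw [h1, one_mul] at h2
  exact h2.symm

/-- The homomorphism to the dual numbers of a derivation. -/
def derHom (D : Derivation k O k) : O →+* TrivSqZeroExt k k where
  toFun r := (algebraMap O k r, D r)
  map_one' := TrivSqZeroExt.ext (map_one (algebraMap O k)) D.map_one_eq_zero
  map_zero' := TrivSqZeroExt.ext (map_zero (algebraMap O k)) D.map_zero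
  map_add' x y := TrivSqZeroExt.ext (map_add (algebraMap O k) x y) (D.map_add x y)
  map_mul' x y := TrivSqZeroExt.ext (map_mul (algebraMap O k) x y) (by
    show D (x * y) = algebraMap O k x • D y + MulOpposite.op (algebraMap O k y) • D x
    rw [D.leibniz, op_smul_eq_smul, algebraMap_smul, algebraMap_smul])

/-- The homomorphism of two derivations. -/
def derHom2 (D₁ D₂ : Derivation k O k) : O →+* TrivSqZeroExt k (k × k) where
  toFun r := (algebraMap O k r, (D₁ r, D₂ r))
  map_one' := TrivSqZeroExt.ext (map_one (algebraMap O k)) (Prod.ext D₁.map_one_eq_zero D₂.map_one_eq_zero)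
  map_zero' := TrivSqZeroExt.ext (map_zero (algebraMap O k)) (Prod.ext D₁.map_zero D₂.map_zero)
  map_add' x y := TrivSqZeroExt.ext (map_add (algebraMap O k) x y) (Prod.ext (D₁.map_add x y) (D₂.map_add x y))
  map_mul' x y := TrivSqZeroExt.ext (map_mul (algebraMap O k) x y) (by
    show (D₁ (x * y), D₂ (x * y)) =
      algebraMap O k x • (D₁ y, D₂ y) + MulOpposite.op (algebraMap O k y) • (D₁ x, D₂ x)
    rw [D₁.leibniz, D₂.leibniz, op_smul_eq_smul, algebraMap_smul, algebraMap_smul]
    rfl)

theorem derHom_fst (D : Derivation k O k) : (TrivSqZeroExt.fstHom k k k).toRingHom.comp (derHom D) = algebraMap O k :=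
  rfl

theorem derHom2_fst (D₁ D₂ : Derivation k O k) :
    (TrivSqZeroExt.fstHom k k (k × k)).toRingHom.comp (derHom2 D₁ D₂) = algebraMap O k := rfl

theorem derHom_algebraMap (D : Derivation k O k) :
    (derHom D).comp (algebraMap k O) = TrivSqZeroExt.inlHom k k :=
  RingHom.ext fun c => TrivSqZeroExt.ext (eval_algebraMap c) (D.map_algebraMap c)

theorem derHom2_algebraMap (D₁ D₂ : Derivation k O k) :
    (derHom2 D₁ D₂).comp (algebraMap k O) = TrivSqZeroExt.inlHom k (k × k) :=
  RingHom.ext fun c => TrivSqZeroExt.ext (eval_algebraMap c) (Prod.ext (D₁.map_algebraMap c) (D₂.map_algebraMap c))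

theorem exists_derivation (a : O →+* TrivSqZeroExt k k) (h₁ : a.comp (algebraMap k O) = TrivSqZeroExt.inlHom k k)
    (h₂ : (TrivSqZeroExt.fstHom k k k).toRingHom.comp a = algebraMap O k) : ∃ D : Derivation k O k, derHom D = a := by
  have hf : ∀ r, (a r).fst = algebraMap O k r := fun r => RingHom.congr_fun h₂ r
  let L : O →ₗ[k] k :=
    { toFun := fun r => (a r).snd
      map_add' := fun x y => by rw [map_add]; rfl
      map_smul' := fun c x => by
        rw [Algebra.smul_def, map_mul, show a (algebraMap k O c) = TrivSqZeroExt.inl c from RingHom.congr_fun h₁ c,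
          TrivSqZeroExt.snd_mul, TrivSqZeroExt.fst_inl, TrivSqZeroExt.snd_inl, smul_zero, add_zero]
        rfl }
  refine ⟨Derivation.mk' L fun x y => ?_, RingHom.ext fun r => TrivSqZeroExt.ext (hf r).symm rfl⟩
  show (a (x * y)).snd = x • (a y).snd + y • (a x).snd
  rw [map_mul, TrivSqZeroExt.snd_mul, op_smul_eq_smul, hf, hf, algebraMap_smul, algebraMap_smul]

end Groth.Agent.QuotInf

end
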