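import Groth.Agent.QuotInf.TanSpace
import Groth.Agent.GrpAct.DimClosed
import Groth.Agent.LocalDimBC.Smooth
import Groth.Agent.SmLocalST.SmoothField

/-!
The relative dimension of a Quot scheme at a point with vanishing `Ext¹`.
-/

set_option autoImplicit false
set_option linter.unusedSectionVars false
set_option linter.style.haveILetI false
set_option backward.isDefEq.respectTransparency false
set_option backward.isDefEq.respectTransparency.types false
set_option maxHeartbeats 1000000

universe u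

open CategoryTheory CategoryTheory.Limits AlgebraicGeometry TopologicalSpace
open IsLocalRing (closedPoint)

noncomputable section

namespace Groth.Agent.QuotInf

theorem smoothOfRelativeDimension_ι {X Y : Scheme.{u}} (f : X ⟶ Y) {V : Y.Opens} (hV : IsAffineOpen V) {U : X.Opens}
    (hU : IsAffineOpen U) (e : U ≤ f ⁻¹ᵁ V) (d : ℕ)
    (h : RingHom.IsStandardSmoothOfRelativeDimension d (f.appLE V U e).hom) :
    SmoothOfRelativeDimension d (U.ι ≫ f) := by
  haveI : SmoothOfRelativeDimension d (Spec.map (f.appLE V U e)) := by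
    rw [HasRingHomProperty.Spec_iff (P := @SmoothOfRelativeDimension d)]
    exact RingHom.locally_of RingHom.isStandardSmoothOfRelativeDimension_respectsIso _ h
  haveI : SmoothOfRelativeDimension 0 hV.fromSpec := inferInstance
  have h1 : U.ι ≫ f = hU.isoSpec.hom ≫ Spec.map (f.appLE V U e) ≫ hV.fromSpec := by
    rw [hV.SpecMap_appLE_fromSpec f hU e, IsAffineOpen.fromSpec]
    simp
  rw [h1, MorphismProperty.cancel_left_of_respectsIso (@SmoothOfRelativeDimension d)]
  exact inferInstanceAs (SmoothOfRelativeDimension (d + 0) (Spec.map (f.appLE V U e) ≫ hV.fromSpec))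

theorem exists_smoothOfRelativeDimension_nhd {X Y : Scheme.{u}} (f : X ⟶ Y) (U : X.Opens) [Smooth (U.ι ≫ f)]
    {x : X} (hx : x ∈ U) : ∃ (W : X.Opens) (d : ℕ), x ∈ W ∧ SmoothOfRelativeDimension d (W.ι ≫ f) := by
  obtain ⟨V, hV, U₁, hU₁, hxU, e, hstd⟩ := Smooth.exists_isStandardSmooth (U.ι ≫ f) ⟨x, hx⟩
  algebraize [((U.ι ≫ f).appLE V U₁ e).hom]
  obtain ⟨κ, σ, hσ, hκ, ⟨P⟩⟩ := ‹Algebra.IsStandardSmooth Γ(Y, V) Γ(U.toScheme, U₁)›
  have hd : RingHom.IsStandardSmoothOfRelativeDimension P.dimension ((U.ι ≫ f).appLE V U₁ e).hom := ⟨κ, σ, hσ, hκ, P, rfl⟩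
  haveI := smoothOfRelativeDimension_ι (U.ι ≫ f) hV hU₁ e P.dimension hd
  refine ⟨U.ι ''ᵁ U₁, P.dimension, ⟨⟨x, hx⟩, hxU, rfl⟩, ?_⟩
  have h1 : (U.ι ''ᵁ U₁).ι ≫ f = (U.ι.isoImage U₁).inv ≫ U₁.ι ≫ U.ι ≫ f := by
    rw [← Scheme.Hom.isoImage_inv_ι_assoc]
  rw [h1, MorphismProperty.cancel_left_of_respectsIso (@SmoothOfRelativeDimension P.dimension)]
  infer_instance

/-- At a rational point of a scheme smooth of relative dimension `d` the cotangent space has dimension `d`. -/
theorem finrank_cotangent_of_smooth {k : Type u} [Field k] {Z : Scheme.{u}} (p : Z ⟶ Spec (CommRingCat.of k)) (d : ℕ)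
    [SmoothOfRelativeDimension d p] (zs : Spec (CommRingCat.of k) ⟶ Z) (h : zs ≫ p = 𝟙 _) :
    Module.finrank (IsLocalRing.ResidueField (Z.presheaf.stalk (zs (closedPoint k))))
      (IsLocalRing.CotangentSpace (Z.presheaf.stalk (zs (closedPoint k)))) = d := by
  haveI : Smooth p := SmoothOfRelativeDimension.smooth d p
  haveI : IsLocallyNoetherian Z := LocallyOfFiniteType.isLocallyNoetherian p
  haveI : JacobsonSpace Z := LocallyOfFiniteType.jacobsonSpace p
  haveI : LocallyOfFiniteType (zs ≫ p) := h ▸ inferInstance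
  haveI : LocallyOfFiniteType zs := locallyOfFiniteType_of_comp zs p
  have hc : closedPoint k ∈ closedPoints (Spec (CommRingCat.of k)) := by
    haveI : Subsingleton (Spec (CommRingCat.of k)) := inferInstanceAs (Subsingleton (PrimeSpectrum k))
    exact (Set.subsingleton_singleton.finite).isClosed
  have hcl : IsClosed ({zs (closedPoint k)} : Set Z) := zs.closePoints_subset_preimage_closedPoints hc
  haveI := SmLocalST.isRegularLocalRing_stalk_of_smooth_field p (zs (closedPoint k))
  have h1 := (IsRegularLocalRing.iff_finrank_cotangentSpace (Z.presheaf.stalk (zs (closedPoint k)))).1 inferInstance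
  rw [← GrpAct.fibreDimAt_eq_dim_stalk p _ hcl, LocalDimBC.fibreDimAt_of_smoothOfRelativeDimension d p] at h1
  exact_mod_cast h1

theorem finrank_cotangent_congr {R R' : Type u} [CommRing R] [IsLocalRing R] [IsNoetherianRing R] [CommRing R']
    [IsLocalRing R'] [IsNoetherianRing R'] [IsRegularLocalRing R'] (e : R ≃+* R') :
    Module.finrank (IsLocalRing.ResidueField R) (IsLocalRing.CotangentSpace R) =
      Module.finrank (IsLocalRing.ResidueField R') (IsLocalRing.CotangentSpace R') := by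
  haveI := IsRegularLocalRing.of_ringEquiv e.symm
  have h1 := (IsRegularLocalRing.iff_finrank_cotangentSpace R).1 inferInstance
  have h2 := (IsRegularLocalRing.iff_finrank_cotangentSpace R').1 inferInstance
  rw [ringKrullDim_eq_of_ringEquiv e] at h1
  exact_mod_cast h1.trans h2.symm

variable {X S : Scheme.{u}} {f : X ⟶ S} {E : X.Modules}

theorem exists_relDim_nhd {k : Type u} [Field k] [IsNoetherian S] (σ : S ⟶ Spec (CommRingCat.of k))
    (hproj : ∃ (n : ℕ) (c : X ⟶ CohB1.ProjSpaceOver n S), IsClosedImmersion c ∧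
      c ≫ CohB1.ProjSpaceOver.toBase n S = f)
    (hEc : Coh.IsCoh E) (hEf : FlatMod.IsFlatOver f E) {Q : Over S}
    (Ku : FGA.QuotSet f E Q) (hQ : FGA.QuotRepresentedBy f E Q Ku)
    (s : Spec (CommRingCat.of k) ⟶ S) (hs : s ≫ σ = 𝟙 _)
    (K₀ : FGA.QuotSet f E (Over.mk s)) (g : Over.mk s ⟶ Q) (hg : FGA.quotPull f E g Ku.1 = K₀.1)
    [HasExt.{u} (PicF.XT f (Over.mk s)).Modules]
    (hExt : Subsingleton (Abelian.Ext.{u} (Subobject.underlying.obj K₀.1) (cokernel K₀.1.arrow) 1)) :
    ∃ U : Q.left.Opens, g.left (closedPoint k) ∈ U ∧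
      SmoothOfRelativeDimension
        (letI : (PicF.XT f (Over.mk s)).Over (Spec (CommRingCat.of k)) := ⟨PicF.XTproj f (Over.mk s)⟩
        Module.finrank k (Subobject.underlying.obj K₀.1 ⟶ cokernel K₀.1.arrow))
        (U.ι ≫ Q.hom) := by
  haveI : LocallyOfFiniteType f := by
    obtain ⟨n, c, hc, rfl⟩ := hproj
    haveI := hc
    haveI : IsProper (CohB1.ProjSpaceOver.toBase n S) := HQProj.isProper_toBase n S
    infer_instance
  obtain ⟨U₀, hx₀, hU₀⟩ := exists_smooth_nhd σ hproj hEc hEf Ku hQ s hs K₀ g hg hExt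
  haveI := hU₀
  obtain ⟨W, d, hxW, hW⟩ := exists_smoothOfRelativeDimension_nhd Q.hom U₀ hx₀
  haveI := hW
  -- the fibre
  let Z := pullback Q.hom s
  let m : pullback (W.ι ≫ Q.hom) s ⟶ Z := pullback.map (W.ι ≫ Q.hom) s Q.hom s W.ι (𝟙 _) (𝟙 _) (by simp) (by simp)
  haveI : IsOpenImmersion m := inferInstanceAs
    (IsOpenImmersion (pullback.map (W.ι ≫ Q.hom) s Q.hom s W.ι (𝟙 _) (𝟙 _) _ _))
  haveI : SmoothOfRelativeDimension d (pullback.snd (W.ι ≫ Q.hom) s) :=
    (smoothOfRelativeDimension_isStableUnderBaseChange (n := d)).of_isPullback (IsPullback.of_hasPullback _ _) hW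
  have hr : Set.range g.left ⊆ Set.range W.ι := by
    haveI : Subsingleton (Over.mk s).left := inferInstanceAs (Subsingleton (PrimeSpectrum k))
    rintro _ ⟨t, rfl⟩
    rw [Scheme.Opens.range_ι, show t = closedPoint k from Subsingleton.elim _ _]
    exact hxW
  let zs : Spec (CommRingCat.of k) ⟶ pullback (W.ι ≫ Q.hom) s :=
    pullback.lift (IsOpenImmersion.lift W.ι g.left hr) (𝟙 _) (by
      rw [IsOpenImmersion.lift_fac_assoc, Category.id_comp]
      exact Over.w g)
  refine ⟨W, hxW, ?_⟩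
  have hzj : (zs ≫ m) ≫ pullback.fst Q.hom s = g.left := by simp [zs, m]
  have hzp : (zs ≫ m) ≫ pullback.snd Q.hom s = 𝟙 _ := by simp [zs, m]
  have h1 := finrank_cotangent_fibre (IsPullback.of_hasPullback Q.hom s) hEc hEf Ku hQ K₀ g hg (zs ≫ m) hzp hzj
    (z := m (zs (closedPoint k))) rfl
  have h2 := finrank_cotangent_of_smooth (pullback.snd (W.ι ≫ Q.hom) s) d zs (by simp [zs])
  haveI := hW
  haveI : Smooth (pullback.snd (W.ι ≫ Q.hom) s) := SmoothOfRelativeDimension.smooth d _
  haveI : IsLocallyNoetherian (pullback (W.ι ≫ Q.hom) s) := LocallyOfFiniteType.isLocallyNoetherian (pullback.snd _ _)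
  haveI := SmLocalST.isRegularLocalRing_stalk_of_smooth_field (pullback.snd (W.ι ≫ Q.hom) s) (zs (closedPoint k))
  haveI := locallyOfFiniteType_quot hEc hproj hQ
  haveI : IsLocallyNoetherian Z := LocallyOfFiniteType.isLocallyNoetherian (pullback.snd Q.hom s)
  rw [← h1, finrank_cotangent_congr (asIso (m.stalkMap (zs (closedPoint k)))).commRingCatIsoToRingEquiv, h2]
  exact hW

end Groth.Agent.QuotInf

end
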