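import Groth.Agent.ArtFlat.Basic
import Mathlib.RingTheory.Flat.Localization

/-!
Flat quotients along a small extension of local rings: the stalkwise algebra.

`B` is a local ring with nilpotent maximal ideal, `t` a nonzero element killed by it, `A = B / (t)`, `E` a flat
`B`-module and `π : E → F` a surjection onto a flat `A`-module with kernel `P`.
-/

set_option autoImplicit false
set_option linter.unusedSectionVars false
set_option linter.style.haveILetI false

universe u

open IsLocalRing

namespace Groth.Agent.QuotInf.Alg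

variable {B A E F : Type u} [CommRing B] [IsLocalRing B] [CommRing A] [Algebra B A]
  [AddCommGroup E] [Module B E] [AddCommGroup F] [Module B F] [Module A F] [IsScalarTower B A F]

/-- The standing hypotheses on a small extension. -/
structure Small (B A : Type u) [CommRing B] [IsLocalRing B] [CommRing A] [Algebra B A] (t : B) : Prop where
  nil : IsNilpotent (maximalIdeal B)
  surj : Function.Surjective (algebraMap B A)
  ker : RingHom.ker (algebraMap B A) = Ideal.span {t}
  ne : t ≠ 0
  mem : t ∈ maximalIdeal B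
  kill : ∀ m ∈ maximalIdeal B, m * t = 0

variable {t : B} (hs : Small B A t)
include hs

theorem Small.mem_of_mul_eq_zero {b : B} (h : t * b = 0) : b ∈ maximalIdeal B := by
  by_contra hb
  exact hs.ne ((IsUnit.mul_left_eq_zero (IsLocalRing.notMem_maximalIdeal.1 hb)).1 h)

theorem Small.mul_self : t * t = 0 := hs.kill t hs.mem

theorem Small.map_t : algebraMap B A t = 0 := by
  rw [← RingHom.mem_ker, hs.ker]; exact Ideal.mem_span_singleton_self t

theorem Small.free [Module.Flat A F] : ∃ (ι : Type u) (_ : Module.Basis ι A F), True := by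
  haveI : Nontrivial A := by
    refine ⟨⟨1, 0, fun h => ?_⟩⟩
    have : (1 : B) ∈ Ideal.span {t} := by rw [← hs.ker, RingHom.mem_ker, map_one, h]
    obtain ⟨c, hc⟩ := Ideal.mem_span_singleton'.1 this
    exact (IsLocalRing.notMem_maximalIdeal.2 isUnit_one) (hc ▸ Ideal.mul_mem_left _ c hs.mem)
  haveI : IsLocalRing A := .of_surjective' (algebraMap B A) hs.surj
  haveI : IsLocalHom (algebraMap B A) := .of_surjective _ hs.surj
  have hA : IsNilpotent (maximalIdeal A) := by
    obtain ⟨n, hn⟩ := hs.nil
    refine ⟨n, ?_⟩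
    have hc : (maximalIdeal A).comap (algebraMap B A) = maximalIdeal B :=
      ((IsLocalRing.local_hom_TFAE (algebraMap B A)).out 0 4 rfl rfl).1 ‹_›
    have hmap : maximalIdeal A = (maximalIdeal B).map (algebraMap B A) := by
      rw [← hc, Ideal.map_comap_of_surjective _ hs.surj]
    rw [hmap, ← Ideal.map_pow, hn, Ideal.zero_eq_bot, Ideal.map_bot]
    rfl
  haveI := ArtFlat.free_of_flat hA F
  exact ⟨_, Module.Free.chooseBasis A F, trivial⟩

/-- A flat quotient over `A` is the reduction of a free quotient over `B`. -/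
theorem exists_free_lift [Module.Flat B E] [Module.Flat A F] (π : E →ₗ[B] F) (hπ : Function.Surjective π) :
    ∃ (ι : Type u) (φ : E →ₗ[B] (ι →₀ B)) (s : (ι →₀ B) →ₗ[B] E), φ.comp s = LinearMap.id ∧
      (∀ x, φ x = 0 → π x = 0) ∧ ∀ x, π x = 0 → ∃ e, φ (x - t • e) = 0 := by
  classical
  obtain ⟨ι, b, -⟩ := hs.free (F := F)
  haveI : Module.Free B E := ArtFlat.free_of_flat hs.nil E
  let red : (ι →₀ B) →ₗ[B] F := Finsupp.linearCombination B b
  have hred : Function.Surjective red := fun y => by
    obtain ⟨c, hc⟩ := (Finsupp.mapRange_surjective (algebraMap B A) (map_zero _) hs.surj) (b.repr y)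
    refine ⟨c, ?_⟩
    conv_rhs => rw [← b.linearCombination_repr y, ← hc]
    rw [Finsupp.linearCombination_apply, Finsupp.linearCombination_apply,
      Finsupp.sum_mapRange_index (fun i => zero_smul A (b i))]
    exact Finsupp.sum_congr fun i _ => (algebraMap_smul A (c i) (b i)).symm
  have hker : ∀ c : ι →₀ B, red c = 0 → ∃ d, c = t • d := fun c hc => by
    have h0 : ∀ i, algebraMap B A (c i) = 0 := by
      have h1 : Finsupp.linearCombination A b (Finsupp.mapRange (algebraMap B A) (map_zero _) c) = 0 := by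
        rw [← hc, Finsupp.linearCombination_apply, Finsupp.linearCombination_apply,
          Finsupp.sum_mapRange_index (fun i => zero_smul A (b i))]
        exact Finsupp.sum_congr fun i _ => algebraMap_smul A (c i) (b i)
      intro i
      have h2 := congrArg b.repr h1
      rw [b.repr_linearCombination, map_zero] at h2
      simpa using DFunLike.congr_fun h2 i
    have h3 : ∀ i, ∃ d, c i = t * d := fun i => by
      obtain ⟨d, hd⟩ := Ideal.mem_span_singleton'.1 (hs.ker ▸ RingHom.mem_ker.2 (h0 i) : c i ∈ Ideal.span {t})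
      exact ⟨d, by rw [← hd, mul_comm]⟩
    choose d hd using h3
    refine ⟨Finsupp.onFinset c.support (fun i => if c i = 0 then 0 else d i) (fun i hi => by
      rw [Finsupp.mem_support_iff]; intro h; exact hi (if_pos h)), Finsupp.ext fun i => ?_⟩
    rw [Finsupp.smul_apply, Finsupp.onFinset_apply, smul_eq_mul]
    split_ifs with h
    · rw [h, mul_zero]
    · exact hd i
  obtain ⟨φ, hφ⟩ := Module.projective_lifting_property red π hred
  have hredφ : ∀ x, red (φ x) = π x := fun x => LinearMap.congr_fun hφ x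
  have hφs : Function.Surjective φ := fun y => by
    obtain ⟨e, he⟩ := hπ (red y)
    obtain ⟨z, hz⟩ := hker (y - φ e) (by rw [map_sub, hredφ, he, sub_self])
    obtain ⟨e', he'⟩ := hπ (red z)
    obtain ⟨z', hz'⟩ := hker (z - φ e') (by rw [map_sub, hredφ, he', sub_self])
    refine ⟨e + t • e', ?_⟩
    rw [map_add, map_smul, show φ e' = z - t • z' by rw [← hz']; abel, smul_sub, ← hz, smul_smul, hs.mul_self,
      zero_smul]
    abel
  obtain ⟨s, hs'⟩ := Module.projective_lifting_property φ LinearMap.id hφs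
  refine ⟨ι, φ, s, hs', fun x hx => by rw [← hredφ, hx, map_zero], fun x hx => ?_⟩
  obtain ⟨d, hd⟩ := hker (φ x) (by rw [hredφ, hx])
  obtain ⟨e, rfl⟩ := hφs d
  exact ⟨e, by rw [map_sub, map_smul, hd, sub_self]⟩

/-- An element killed by `t` in a free module lies in `m` times the module. -/
theorem mem_smul_of_smul_eq_zero {Q : Type u} [AddCommGroup Q] [Module B Q] [Module.Flat B Q] {x : Q}
    (h : t • x = 0) : x ∈ maximalIdeal B • (⊤ : Submodule B Q) := by
  haveI : Module.Free B Q := ArtFlat.free_of_flat hs.nil Q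
  let b := Module.Free.chooseBasis B Q
  rw [← b.linearCombination_repr x, Finsupp.linearCombination_apply]
  refine Submodule.sum_mem _ fun i _ => Submodule.smul_mem_smul (hs.mem_of_mul_eq_zero ?_) trivial
  have h1 := congrArg b.repr h
  rw [map_smul, map_zero] at h1
  simpa using DFunLike.congr_fun h1 i

theorem smul_eq_zero_of_mem {Q : Type u} [AddCommGroup Q] [Module B Q] {x : Q}
    (h : x ∈ maximalIdeal B • (⊤ : Submodule B Q)) : t • x = 0 := by
  induction h using Submodule.smul_induction_on' with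
  | smul m hm q _ => rw [smul_smul, mul_comm, hs.kill m hm, zero_smul]
  | add x _ y _ hx hy => rw [smul_add, hx, hy, add_zero]

section Kernel

variable [Module.Flat B E] [Module.Flat A F] (π : E →ₗ[B] F) (hπ : Function.Surjective π)

theorem map_smul_t (e : E) : π (t • e) = 0 := by
  rw [map_smul, ← algebraMap_smul A t (π e), hs.map_t, zero_smul]

include hπ

/-- (i): `P ∩ m E ⊆ m P + t E`. -/
theorem mem_of_mem_smul_top {x : E} (hx : π x = 0) (hm : x ∈ maximalIdeal B • (⊤ : Submodule B E)) :
    ∃ e : E, x - t • e ∈ maximalIdeal B • LinearMap.ker π := by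
  obtain ⟨ι, φ, s, hφs, hle, hex⟩ := exists_free_lift hs π hπ
  obtain ⟨e, he⟩ := hex x hx
  refine ⟨e, ?_⟩
  have hmem : x - t • e ∈ maximalIdeal B • (⊤ : Submodule B E) :=
    sub_mem hm (Submodule.smul_mem_smul hs.mem trivial)
  have h1 : x - t • e = (LinearMap.id - s.comp φ : E →ₗ[B] E) (x - t • e) := by simp [he]
  rw [h1]
  have h2 := Submodule.mem_map_of_mem (f := (LinearMap.id - s.comp φ : E →ₗ[B] E)) hmem
  rw [Submodule.map_smul''] at h2
  refine Submodule.smul_mono le_rfl ?_ h2
  rintro _ ⟨y, -, rfl⟩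
  refine hle _ ?_
  have := LinearMap.congr_fun hφs (φ y)
  simp only [LinearMap.comp_apply, LinearMap.id_apply] at this
  simp [this]

/-- (ii): `t x ∈ m P` forces `x ∈ P + m E`. -/
theorem mem_of_smul_mem {x : E} (h : t • x ∈ maximalIdeal B • LinearMap.ker π) :
    x ∈ LinearMap.ker π ⊔ maximalIdeal B • (⊤ : Submodule B E) := by
  obtain ⟨ι, φ, s, hφs, hle, hex⟩ := exists_free_lift hs π hπ
  have hzero : ∀ y ∈ maximalIdeal B • LinearMap.ker π, φ y = 0 := fun y hy => by
    induction hy using Submodule.smul_induction_on' with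
    | smul m hm q hq =>
      obtain ⟨e, he⟩ := hex q hq
      rw [map_sub, map_smul, sub_eq_zero] at he
      rw [map_smul, he, smul_smul, hs.kill m hm, zero_smul]
    | add x _ y _ hx hy => rw [map_add, hx, hy, add_zero]
  have h1 : t • φ x = 0 := by rw [← map_smul]; exact hzero _ h
  have h2 := Submodule.mem_map_of_mem (f := s) (mem_smul_of_smul_eq_zero hs h1)
  rw [Submodule.map_smul''] at h2
  refine Submodule.mem_sup.2 ⟨x - s (φ x), hle _ ?_, s (φ x), Submodule.smul_mono le_rfl le_top h2,
    sub_add_cancel _ _⟩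
  have := LinearMap.congr_fun hφs (φ x)
  simp only [LinearMap.comp_apply, LinearMap.id_apply] at this
  rw [map_sub, this, sub_self]

/-- Retractions give flat lifts. -/
theorem flat_lift {F₀ : Type u} [AddCommGroup F₀] [Module B F₀] (q₀ : E →ₗ[B] F₀) (hq₀ : Function.Surjective q₀)
    (hk : ∀ e, q₀ e = 0 ↔ e ∈ LinearMap.ker π ⊔ maximalIdeal B • (⊤ : Submodule B E))
    (r : LinearMap.ker π →ₗ[B] F₀) (hr : ∀ e, r ⟨t • e, map_smul_t hs π e⟩ = q₀ e) :
    Module.Flat B (E ⧸ (LinearMap.ker r).map (LinearMap.ker π).subtype) ∧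
      ∀ x, π x = 0 → ∃ e, x - t • e ∈ (LinearMap.ker r).map (LinearMap.ker π).subtype := by
  obtain ⟨ι, φ, s, hφs, hle, hex⟩ := exists_free_lift hs π hπ
  haveI : Module.Free B E := ArtFlat.free_of_flat hs.nil E
  let proj : E →ₗ[B] LinearMap.ker π := LinearMap.codRestrict _ (LinearMap.id - s.comp φ) fun y => by
    refine hle _ ?_
    have := LinearMap.congr_fun hφs (φ y)
    simp only [LinearMap.comp_apply, LinearMap.id_apply] at this
    simp [this]
  obtain ⟨σ, hσ⟩ := Module.projective_lifting_property q₀ (r.comp proj) hq₀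
  have hσ' : ∀ y, q₀ (σ y) = r (proj y) := fun y => LinearMap.congr_fun hσ y
  let α : E ≃ₗ[B] E := LinearEquiv.ofLinearMap (LinearMap.id - t • σ) (LinearMap.id + t • σ)
    (LinearMap.ext fun y => by
      simp [smul_sub, smul_add, smul_smul, hs.mul_self])
    (LinearMap.ext fun y => by
      simp [smul_sub, smul_add, smul_smul, hs.mul_self])
  have hKL : (LinearMap.ker r).map (LinearMap.ker π).subtype = (LinearMap.ker φ).map (α : E →ₗ[B] E) := by
    have hαapp : ∀ y, α y = y - t • σ y := fun _ => rfl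
    have hrl : ∀ l, (hl : φ l = 0) → r ⟨l, hle l hl⟩ = q₀ (σ l) := fun l hl => by
      rw [hσ' l]
      exact congrArg r (Subtype.ext (by
        change l = l - s (φ l)
        rw [hl, map_zero, sub_zero]))
    apply le_antisymm
    · rintro _ ⟨⟨x, hx⟩, hxr, rfl⟩
      obtain ⟨e, he⟩ := hex x hx
      have hsplit : (⟨x, hx⟩ : LinearMap.ker π) = ⟨x - t • e, hle _ he⟩ + ⟨t • e, map_smul_t hs π e⟩ :=
        Subtype.ext (by simp)
      rw [SetLike.mem_coe, LinearMap.mem_ker, hsplit, map_add, hrl _ he, hr, ← map_add, hk] at hxr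
      obtain ⟨p, hp, m, hm, hsum⟩ := Submodule.mem_sup.1 hxr
      obtain ⟨e', he'⟩ := hex p hp
      refine ⟨x - t • e + t • (p - t • e'), ?_, ?_⟩
      · rw [SetLike.mem_coe, LinearMap.mem_ker, map_add, he, zero_add, map_smul, he', smul_zero]
      · show α _ = x
        have ht : t • (σ (x - t • e) + e) = t • p := by
          rw [← hsum, smul_add, smul_eq_zero_of_mem hs hm, add_zero]
        rw [hαapp, map_add, smul_add, smul_sub, smul_smul, hs.mul_self, zero_smul, sub_zero, map_smul,
          smul_smul, hs.mul_self, zero_smul, add_zero, ← ht, smul_add]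
        abel
    · rintro _ ⟨l, hl, rfl⟩
      refine ⟨⟨l, hle l hl⟩ - ⟨t • σ l, map_smul_t hs π _⟩, ?_, ?_⟩
      · rw [SetLike.mem_coe, LinearMap.mem_ker, map_sub, hrl l hl, hr, sub_self]
      · show l - t • σ l = α l
        rfl
  refine ⟨?_, fun x hx => ?_⟩
  · rw [hKL]
    have hφ' : Function.Surjective φ := fun y => ⟨s y, LinearMap.congr_fun hφs y⟩
    haveI : Module.Flat B (E ⧸ LinearMap.ker φ) :=
      Module.Flat.of_linearEquiv (φ.quotKerEquivOfSurjective hφ')
    exact Module.Flat.of_linearEquiv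
      (Submodule.Quotient.equiv (LinearMap.ker φ) _ α rfl).symm
  · obtain ⟨e₀, he₀⟩ := hq₀ (r ⟨x, hx⟩)
    refine ⟨e₀, ⟨x, hx⟩ - ⟨t • e₀, map_smul_t hs π _⟩, ?_, rfl⟩
    rw [SetLike.mem_coe, LinearMap.mem_ker, map_sub, hr, he₀, sub_self]

end Kernel

/-- (iv): in a flat lift `t x = 0` only for `x` in the kernel of the closed fibre. -/
theorem mem_of_lift [Module.Flat B E] (π : E →ₗ[B] F) {Q : Type u} [AddCommGroup Q] [Module B Q]
    [Module.Flat B Q] (q : E →ₗ[B] Q) (hq : Function.Surjective q) (hv : ∀ x, q x = 0 → π x = 0) {e : E}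
    (h : t • q e = 0) : e ∈ LinearMap.ker π ⊔ maximalIdeal B • (⊤ : Submodule B E) := by
  have h1 := mem_smul_of_smul_eq_zero hs h
  have h2 : (maximalIdeal B • (⊤ : Submodule B E)).map q = maximalIdeal B • ⊤ := by
    rw [Submodule.map_smul'', Submodule.map_top, LinearMap.range_eq_top.2 hq]
  rw [← h2] at h1
  obtain ⟨m, hm, hme⟩ := h1
  exact Submodule.mem_sup.2 ⟨e - m, hv _ (by rw [map_sub, hme, sub_self]), m, hm, sub_add_cancel _ _⟩

end Groth.Agent.QuotInf.Alg
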