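import Groth.Agent.QuotInf.Bij

/-!
Lifting and rigidity of flat quotients along small extensions, in terms of submodules.
-/

set_option autoImplicit false
set_option linter.unusedSectionVars false
set_option linter.style.haveILetI false
set_option backward.isDefEq.respectTransparency false
set_option backward.isDefEq.respectTransparency.types false
set_option maxHeartbeats 1000000

universe u

open CategoryTheory CategoryTheory.Limits AlgebraicGeometry TopologicalSpace Opposite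
open Groth.Agent.QuotProj (Quo)
open IsLocalRing (maximalIdeal)

noncomputable section

namespace Groth.Agent.QuotInf

theorem exists_retraction {Y : Scheme.{u}} [HasExt.{u} Y.Modules] {S : ShortComplex Y.Modules} (hS : S.ShortExact)
    (h : Subsingleton (Abelian.Ext.{u} S.X₃ S.X₁ 1)) : ∃ r : S.X₂ ⟶ S.X₁, S.f ≫ r = 𝟙 _ := by
  obtain ⟨e, he⟩ := Abelian.Ext.contravariant_sequence_exact₁ hS _ (Abelian.Ext.mk₀ (𝟙 S.X₁)) (n₁ := 1) rfl
    (Subsingleton.elim _ _)
  obtain ⟨r, rfl⟩ := Abelian.Ext.homEquiv₀.symm.surjective e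
  refine ⟨r, Abelian.Ext.homEquiv₀.symm.injective ?_⟩
  rw [Abelian.Ext.homEquiv₀_symm_apply, Abelian.Ext.homEquiv₀_symm_apply] at *
  rwa [Abelian.Ext.mk₀_comp_mk₀] at he

variable {X S : Scheme.{u}} {f : X ⟶ S} {E : X.Modules}

theorem quotPull_ofSub {T T' : Over S} (g : T' ⟶ T) (K : Subobject (FGA.ET f E T)) :
    FGA.quotPull f E g K = ((Quo.ofSub K).pull g).sub := by
  conv_lhs => rw [← Quo.sub_ofSub K]
  exact Quo.quotPull_sub _ g

theorem quotPull_comp {T T' T'' : Over S} (h : T'' ⟶ T') (g : T' ⟶ T) (K : Subobject (FGA.ET f E T)) :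
    FGA.quotPull f E h (FGA.quotPull f E g K) = FGA.quotPull f E (h ≫ g) K := by
  rw [quotPull_ofSub g K, Quo.quotPull_sub, quotPull_ofSub (h ≫ g) K, Quo.sub_eq_iff]
  exact Quo.pull_pull _ h g

theorem rel_of_quotPull {T T' : Over S} {g : T' ⟶ T} {K : Subobject (FGA.ET f E T)}
    {K' : Subobject (FGA.ET f E T')} (h : FGA.quotPull f E g K = K') : ((Quo.ofSub K).pull g).Rel (Quo.ofSub K') := by
  rw [← Quo.sub_eq_iff, ← quotPull_ofSub, Quo.sub_ofSub, h]

theorem quotPull_id {T : Over S} (K : Subobject (FGA.ET f E T)) : FGA.quotPull f E (𝟙 T) K = K := by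
  rw [quotPull_ofSub]
  exact ((Quo.sub_eq_iff _ _).2 (Quo.pull_id _)).trans (Quo.sub_ofSub K)

/-- A submodule with coherent flat quotient, pulled back. -/
def qpull [LocallyOfFiniteType f] {T T' : Over S} [IsLocallyNoetherian T'.left] (g : T' ⟶ T)
    (K : FGA.QuotSet f E T) : FGA.QuotSet f E T' :=
  ((Quo.ofSub K.1).pull g).toSet ((QuotProj.isFam_ofSub K).pull g)

theorem qpull_val [LocallyOfFiniteType f] {T T' : Over S} [IsLocallyNoetherian T'.left] (g : T' ⟶ T)
    (K : FGA.QuotSet f E T) : (qpull g K).1 = FGA.quotPull f E g K.1 := (quotPull_ofSub g K.1).symm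

theorem flat_ET (hE : FlatMod.IsFlatOver f E) (T : Over S) : FlatMod.IsFlatOver (PicF.XTproj f T) (FGA.ET f E T) :=
  fun x => FlatModBC.isFlatOverAt_baseChange (IsPullback.of_hasPullback f T.hom) E x (hE _)

theorem flatOver_field {k : Type u} [Field k] {Y : Scheme.{u}} (p : Y ⟶ Spec (CommRingCat.of k)) (M : Y.Modules) :
    FlatMod.IsFlatOver p M := fun y => (flat_stB_iff p M y).2 inferInstance

section Small

variable [LocallyOfFiniteType f]
variable {B A κ : Type u} [CommRing B] [IsLocalRing B] [IsNoetherianRing B] [CommRing A] [CommRing κ]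
variable {φ : B →+* A} {χ : B →+* κ} {t : B} (D : Ext1Data φ χ t)
variable {b : Spec (CommRingCat.of B) ⟶ S} {a : Spec (CommRingCat.of A) ⟶ S}
  {s : Spec (CommRingCat.of κ) ⟶ S}
variable (g : Over.mk a ⟶ Over.mk b) (hg : g.left = Spec.map (CommRingCat.ofHom φ))
variable (g₀ : Over.mk s ⟶ Over.mk a) (hg₁ : (g₀ ≫ g).left = Spec.map (CommRingCat.ofHom χ))
variable (hE : FlatMod.IsFlatOver (pr f b) (FGA.ET f E (Over.mk b)))
variable (K : FGA.QuotSet f E (Over.mk a)) (K₀ : FGA.QuotSet f E (Over.mk s))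
  (hK₀ : FGA.quotPull f E g₀ K.1 = K₀.1)
include D hg hg₁ hE hK₀

theorem prob_of_quotSet : Prob φ χ t g (g₀ ≫ g) (Quo.ofSub K.1) K₀.1 where
  ext1 := D
  hg := hg
  hg₁ := hg₁
  flat := ⟨hE, K.2.2⟩
  rel := by
    have h1 : ((pushQ g hg D.surjA D.nilA (Quo.ofSub K.1)).pull g).Rel (Quo.ofSub K.1) :=
      rel_pull_of_adjunct g hg D.surjA _ (pushQ g hg D.surjA D.nilA (Quo.ofSub K.1)) (𝟙 _) (Category.comp_id _)
        fun y w hw => by
          rw [CategoryTheory.Functor.map_id] at hw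
          rw [show w = 0 from hw]
          exact zero_mem _
    exact ((Quo.pull_pull _ g₀ g).symm.trans (h1.pull g₀)).trans (rel_of_quotPull hK₀)

theorem exists_lift_small (hEc : Coh.IsCoh E) [HasExt.{u} (PicF.XT f (Over.mk s)).Modules]
    (h : Subsingleton (Abelian.Ext.{u} (Subobject.underlying.obj K₀.1) (cokernel K₀.1.arrow) 1)) :
    ∃ K' : FGA.QuotSet f E (Over.mk b), FGA.quotPull f E g K'.1 = K.1 := by
  let P := prob_of_quotSet D g hg g₀ hg₁ hE K K₀ hK₀
  haveI : IsLocallyNoetherian (Over.mk b).left := inferInstanceAs (IsLocallyNoetherian (Spec (CommRingCat.of B)))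
  haveI := QuotProj.isLocallyNoetherian_XT (f := f) (Over.mk b)
  obtain ⟨r, hr⟩ := exists_retraction (shortExact P) h
  have hfam : (liftQ r).IsFam :=
    ⟨isCoh_liftQ P (QuotProj.isCoh_ET hEc _) K.2.1 r K₀.2.1.1, isFlatOver_liftQ P hr⟩
  exact ⟨(liftQ r).toSet hfam, (Quo.quotPull_eq_iff _ g K.1).2 (rel_liftQ P hr)⟩

theorem eq_of_lift_small (h : Subsingleton (Subobject.underlying.obj K₀.1 ⟶ cokernel K₀.1.arrow))
    (K' K'' : FGA.QuotSet f E (Over.mk b)) (hK' : FGA.quotPull f E g K'.1 = K.1)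
    (hK'' : FGA.quotPull f E g K''.1 = K.1) : K'.1 = K''.1 := by
  let P := prob_of_quotSet D g hg g₀ hg₁ hE K K₀ hK₀
  obtain ⟨r, hr, h1⟩ := exists_retr_of_lift P (Quo.ofSub K'.1) K'.2.2 (rel_of_quotPull hK')
  obtain ⟨r', hr', h2⟩ := exists_retr_of_lift P (Quo.ofSub K''.1) K''.2.2 (rel_of_quotPull hK'')
  rw [← Quo.sub_ofSub K'.1, ← Quo.sub_ofSub K''.1, Quo.sub_eq_iff]
  rw [retr_unique P h hr hr'] at h1
  exact h1.trans h2.symm

end Small

end Groth.Agent.QuotInf

end
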