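import Groth.Agent.QuotInf.Retr

/-!
Lifts of a flat quotient along a small extension correspond to retractions of the extension.
-/

set_option autoImplicit false
set_option linter.unusedSectionVars false
set_option linter.style.haveILetI false
set_option backward.isDefEq.respectTransparency false
set_option backward.isDefEq.respectTransparency.types false
set_option maxHeartbeats 1000000

universe u

open CategoryTheory CategoryTheory.Limits AlgebraicGeometry TopologicalSpace Opposite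
open Groth.Agent.KFlat (kap pushStalk)
open Groth.Agent.QuotProj (Quo)
open IsLocalRing (maximalIdeal)

noncomputable section

namespace Groth.Agent.QuotInf

variable {X S : Scheme.{u}} {f : X ⟶ S} {E : X.Modules}
variable {B A κ : Type u} [CommRing B] [IsLocalRing B] [CommRing A] [CommRing κ]
variable {φ : B →+* A} {χ : B →+* κ} {t : B}
variable {b : Spec (CommRingCat.of B) ⟶ S} {a : Spec (CommRingCat.of A) ⟶ S}
  {s : Spec (CommRingCat.of κ) ⟶ S}
variable {g : Over.mk a ⟶ Over.mk b} {g₁ : Over.mk s ⟶ Over.mk b} {Q : Quo f E (Over.mk a)}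
  {K₀ : Subobject (FGA.ET f E (Over.mk s))} (P : Prob φ χ t g g₁ Q K₀)

/-- The submodule of the lift attached to a map out of the middle term. -/
abbrev liftK (r : GK g g₁ Q ⟶ cokernel K₀.arrow) : kernel (retR r) ⟶ FGA.ET f E (Over.mk b) :=
  kernel.ι (retR r) ≫ kernel.ι (pushMap g Q)

/-- The lift attached to a map out of the middle term. -/
def liftQ (r : GK g g₁ Q ⟶ cokernel K₀.arrow) : Quo f E (Over.mk b) :=
  ⟨cokernel (liftK r), cokernel.π _, inferInstance⟩

theorem q_liftQ_eq_zero_iff (r : GK g g₁ Q ⟶ cokernel K₀.arrow) (y : ↑(PicF.XT f (Over.mk b)))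
    (e : (stB (pr f b) y).obj (FGA.ET f E (Over.mk b))) :
    ((stB (pr f b) y).map (liftQ r).q).hom e = 0 ↔
      ∃ p, ((stB (pr f b) y).map (retR r)).hom p = 0 ∧ iota g Q y p = e := by
  have h : ((ShortComplex.mk (liftK r) (cokernel.π (liftK r)) (cokernel.condition _)).map (stB (pr f b) y)).Exact :=
    (ShortComplex.exact_cokernel _).map _
  rw [ShortComplex.ShortExact.moduleCat_exact_iff_function_exact] at h
  refine (h e).trans ⟨?_, ?_⟩
  · rintro ⟨x, rfl⟩
    exact ⟨((stB (pr f b) y).map (kernel.ι (retR r))).hom x, (stB_kernel_iff _ _ _ _).2 ⟨x, rfl⟩,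
      (stB_comp _ _ _ _ _).symm⟩
  · rintro ⟨p, hp, rfl⟩
    obtain ⟨x, rfl⟩ := (stB_kernel_iff _ _ _ _).1 hp
    exact ⟨x, stB_comp _ _ _ _ _⟩

include P

theorem liftQ_stalk {r : GK g g₁ Q ⟶ cokernel K₀.arrow} (hr : sigma P ≫ r = 𝟙 _) (y : ↑(PicF.XT f (Over.mk b))) :
    Module.Flat B ((stB (pr f b) y).obj (liftQ r).F) ∧
      ∀ e ∈ kerπ g Q y, ∃ e', ((stB (pr f b) y).map (liftQ r).q).hom e =
        t • ((stB (pr f b) y).map (liftQ r).q).hom e' := by
  let R := ((stB (pr f b) y).map (retR r)).hom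
  let ν := ((stB (pr f b) y).map (nu g₁ K₀)).hom
  have hbij : Function.Bijective (LinearMap.codRestrict (kerπ g Q y) (iota g Q y)
      fun p => by rw [← range_iota]; exact LinearMap.mem_range_self _ p) := by
    refine ⟨fun p p' h => iota_injective y (congrArg Subtype.val h), fun e => ?_⟩
    obtain ⟨p, hp⟩ := (range_iota (g := g) (Q := Q) y).ge e.2
    exact ⟨p, Subtype.ext hp⟩
  let eP := LinearEquiv.ofBijective _ hbij
  obtain ⟨hνs, hνk⟩ := nu_stalk P.ext1 g P.hg g₁ P.hg₁ Q K₀ P.rel y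
  have hRτ : ∀ e, R (eP.symm ⟨t • e, alg_t_smul P.ext1 g P.hg Q P.flat y e⟩) = ν e := fun e => by
    have h1 : eP.symm ⟨t • e, alg_t_smul P.ext1 g P.hg Q P.flat y e⟩ = ((stB (pr f b) y).map (tau P)).hom e :=
      eP.injective (Subtype.ext ((congrArg Subtype.val (eP.apply_symm_apply _)).trans (iota_tau P y e).symm))
    rw [h1]
    refine (stB_comp _ _ _ _ _).symm.trans ?_
    rw [(tau_retR P r).2 hr]
  obtain ⟨hflat, hsplit⟩ := alg_lift P.ext1 g P.hg Q P.flat ν hνs hνk (R ∘ₗ eP.symm.toLinearMap) hRτ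
  have hker : LinearMap.ker ((stB (pr f b) y).map (liftQ r).q).hom =
      (LinearMap.ker (R ∘ₗ eP.symm.toLinearMap)).map (kerπ g Q y).subtype := by
    ext e
    rw [LinearMap.mem_ker, q_liftQ_eq_zero_iff]
    constructor
    · rintro ⟨p, hp, rfl⟩
      refine ⟨eP p, ?_, rfl⟩
      show R (eP.symm (eP p)) = 0
      rw [eP.symm_apply_apply]; exact hp
    · rintro ⟨k, hk, rfl⟩
      exact ⟨eP.symm k, hk, congrArg Subtype.val (eP.apply_symm_apply k)⟩
  refine ⟨?_, fun e he => ?_⟩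
  · rw [← hker] at hflat
    haveI := hflat
    haveI := (liftQ r).epi
    exact Module.Flat.of_linearEquiv
      (LinearMap.quotKerEquivOfSurjective _ (stB_surjective (pr f b) y (liftQ r).q)).symm
  · obtain ⟨e', he'⟩ := hsplit e he
    refine ⟨e', ?_⟩
    rw [← hker, LinearMap.mem_ker, map_sub, map_smul, sub_eq_zero] at he'
    exact he'

theorem isFlatOver_liftQ {r : GK g g₁ Q ⟶ cokernel K₀.arrow} (hr : sigma P ≫ r = 𝟙 _) :
    FlatMod.IsFlatOver (pr f b) (liftQ r).F :=
  fun y => (flat_stB_iff (pr f b) _ y).2 (liftQ_stalk P hr y).1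

theorem rel_liftQ {r : GK g g₁ Q ⟶ cokernel K₀.arrow} (hr : sigma P ≫ r = 𝟙 _) :
    ((liftQ r).pull g).Rel Q := by
  refine rel_pull_of_adjunct g P.hg P.ext1.surjA Q (liftQ r) (cokernel.desc (liftK r) (pushMap g Q) (by
    rw [Category.assoc, kernel.condition, comp_zero])) (cokernel.π_desc _ _ _) fun y w hw => ?_
  haveI := (liftQ r).epi
  obtain ⟨e, rfl⟩ := stB_surjective (pr f b) y (liftQ r).q w
  have he : e ∈ kerπ g Q y := by
    rw [LinearMap.mem_ker]
    refine Eq.trans ?_ hw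
    refine Eq.trans ?_ (stB_comp _ _ _ _ _)
    rw [show (liftQ r).q ≫ cokernel.desc (liftK r) (pushMap g Q) _ = pushMap g Q from cokernel.π_desc _ _ _]
  obtain ⟨e', he'⟩ := (liftQ_stalk P hr y).2 e he
  rw [he', P.ext1.kerA]
  exact Submodule.smul_mem_smul (Ideal.mem_span_singleton_self t) trivial

theorem isCoh_liftQ [IsLocallyNoetherian (PicF.XT f (Over.mk b))] (hE : Coh.IsCoh (FGA.ET f E (Over.mk b)))
    (hQ : Coh.IsCoh Q.F) (r : GK g g₁ Q ⟶ cokernel K₀.arrow) (h₀ : Coh.IsQCoh (cokernel K₀.arrow)) :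
    Coh.IsCoh (liftQ r).F := by
  haveI := isClosedImmersion_bc (pr f b) (isPullback_bc (f := f) g P.hg) P.ext1.surjA
  haveI := isClosedImmersion_bc (pr f b) (isPullback_bc (f := f) g₁ P.hg₁) P.ext1.surjK
  haveI : Q.F.IsQuasicoherent := hQ.1
  haveI : (cokernel K₀.arrow).IsQuasicoherent := h₀
  have h1 : Coh.IsCoh (kernel (pushMap g Q)) := Groth.Agent.QC.isCoh_kernel hE (Groth.Agent.QC.isQCoh_pushforward _) _
  have h2 : Coh.IsCoh (kernel (retR r)) := Groth.Agent.QC.isCoh_kernel h1 (Groth.Agent.QC.isQCoh_pushforward _) _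
  exact Groth.Agent.QC.isCoh_cokernel h2.1 hE _

theorem sub_liftQ (r r' : GK g g₁ Q ⟶ cokernel K₀.arrow) (h : r = r') : (liftQ r).Rel (liftQ r') := by
  subst h
  exact Quo.Rel.refl _

/-- Every lift comes from a retraction. -/
theorem exists_retr_of_lift (Q' : Quo f E (Over.mk b)) (hflat : FlatMod.IsFlatOver (pr f b) Q'.F)
    (h : (Q'.pull g).Rel Q) :
    ∃ r : GK g g₁ Q ⟶ cokernel K₀.arrow, sigma P ≫ r = 𝟙 _ ∧ Q'.Rel (liftQ r) := by
  obtain ⟨v, hv, hker⟩ := exists_adjunct_of_rel g P.hg P.ext1.surjA P.ext1.nilA h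
  haveI := Q'.epi
  have hvq : ∀ (y : ↑(PicF.XT f (Over.mk b))) (e : (stB (pr f b) y).obj (FGA.ET f E (Over.mk b))),
      ((stB (pr f b) y).map v).hom (((stB (pr f b) y).map Q'.q).hom e) =
        ((stB (pr f b) y).map (pushMap g Q)).hom e := fun y e => by rw [← stB_comp, hv]
  have hν := fun y => nu_stalk P.ext1 g P.hg g₁ P.hg₁ Q K₀ P.rel y
  haveI : Epi (nu g₁ K₀ (f := f) (E := E)) := epi_of_stB (pr f b) _ fun y => (hν y).1
  have w0 : kernel.ι (nu g₁ K₀) ≫ (scB (pr f b) t (FGA.ET f E (Over.mk b)) ≫ Q'.q) = 0 :=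
    hom_ext_stB (pr f b) fun y x => by
      rw [stB_comp, stB_comp, stB_scB, map_smul, Functor.map_zero]
      obtain ⟨p, hp, m, hm, hpm⟩ := Submodule.mem_sup.1 (((hν y).2 _).1 ((stB_kernel_iff _ _ _ _).2 ⟨x, rfl⟩))
      rw [← hpm, map_add, smul_add]
      have h1 : t • ((stB (pr f b) y).map Q'.q).hom p = 0 := by
        have h2 := (hker y _).1 ((hvq y p).trans hp)
        rw [P.ext1.kerA, Submodule.ideal_span_singleton_smul, Submodule.mem_smul_pointwise_iff_exists] at h2
        obtain ⟨w, -, hw⟩ := h2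
        rw [← hw, smul_smul, P.ext1.kill t P.ext1.mem, zero_smul]
      have h3 : t • ((stB (pr f b) y).map Q'.q).hom m = 0 := by
        clear hpm h1
        induction hm using Submodule.smul_induction_on' with
        | smul c hc q _ => rw [map_smul, smul_smul, mul_comm, P.ext1.kill c hc, zero_smul]
        | add u _ u' _ hu hu' => rw [map_add, smul_add, hu, hu', add_zero]
      rw [h1, h3, add_zero]
      rfl
  let u : (Scheme.Modules.pushforward (PicF.XTmap f g₁)).obj (cokernel K₀.arrow) ⟶ Q'.F :=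
    Abelian.epiDesc (nu g₁ K₀) _ w0
  have hu : nu g₁ K₀ ≫ u = scB (pr f b) t (FGA.ET f E (Over.mk b)) ≫ Q'.q := Abelian.comp_epiDesc _ _ _
  have hus : ∀ (y : ↑(PicF.XT f (Over.mk b))) (e : (stB (pr f b) y).obj (FGA.ET f E (Over.mk b))),
      ((stB (pr f b) y).map u).hom (((stB (pr f b) y).map (nu g₁ K₀)).hom e) =
        t • ((stB (pr f b) y).map Q'.q).hom e := fun y e => by
    rw [← stB_comp, hu, stB_comp, stB_scB, map_smul]
  haveI : Mono u := mono_of_stB (pr f b) _ fun y => (injective_iff_map_eq_zero _).2 fun x hx => by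
    obtain ⟨e, rfl⟩ := (hν y).1 x
    haveI := (flat_stB_iff (pr f b) Q'.F y).1 (hflat y)
    rw [hus] at hx
    exact ((hν y).2 e).2 (alg_iv P.ext1 g P.hg Q P.flat ((stB (pr f b) y).map Q'.q).hom (stB_surjective _ _ _)
      (fun e he => LinearMap.mem_ker.2 (((hvq y e).symm.trans (congrArg _ he)).trans (map_zero _))) hx)
  have huv : u ≫ v = 0 := by
    rw [← cancel_epi (nu g₁ K₀), ← Category.assoc, hu, Category.assoc, hv, scB_comp_pushMap P.ext1 g P.hg Q P.flat,
      comp_zero]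
  have hex : (ShortComplex.mk u v huv).Exact := exact_of_stB (pr f b) _ fun y w hw => by
    have h2 := (hker y w).1 hw
    rw [P.ext1.kerA, Submodule.ideal_span_singleton_smul, Submodule.mem_smul_pointwise_iff_exists] at h2
    obtain ⟨w', -, rfl⟩ := h2
    obtain ⟨e, rfl⟩ := stB_surjective (pr f b) y Q'.q w'
    exact ⟨_, hus y e⟩
  haveI : Mono (ShortComplex.mk u v huv).f := ‹Mono u›
  let R := hex.lift (kernel.ι (pushMap g Q) ≫ Q'.q) (by
    show (kernel.ι (pushMap g Q) ≫ Q'.q) ≫ v = 0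
    rw [Category.assoc, hv, kernel.condition])
  have hR : R ≫ u = kernel.ι (pushMap g Q) ≫ Q'.q := hex.lift_f _ _
  let r : GK g g₁ Q ⟶ cokernel K₀.arrow :=
    ((Scheme.Modules.pullbackPushforwardAdjunction (PicF.XTmap f g₁)).homEquiv _ _).symm R
  have hrR : retR r = R := Equiv.apply_symm_apply _ _
  refine ⟨r, (tau_retR P r).1 ?_, ?_⟩
  · rw [hrR, ← cancel_mono u, Category.assoc, hR, ← Category.assoc, tau_ι, hu]
  · have hk : liftK r ≫ Q'.q = 0 := by
      rw [Category.assoc, ← hR, ← Category.assoc]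
      conv_lhs => arg 1; rw [← hrR]
      rw [kernel.condition, zero_comp]
    let d : (liftQ r).F ⟶ Q'.F := cokernel.desc _ Q'.q hk
    have hd : (liftQ r).q ≫ d = Q'.q := cokernel.π_desc _ _ _
    haveI : Epi d := epi_of_epi_fac hd
    haveI : Mono d := mono_of_stB (pr f b) _ fun y => (injective_iff_map_eq_zero _).2 fun x hx => by
      haveI := (liftQ r).epi
      obtain ⟨e, rfl⟩ := stB_surjective (pr f b) y (liftQ r).q x
      rw [← stB_comp, hd] at hx
      have he : e ∈ kerπ g Q y := LinearMap.mem_ker.2 (((hvq y e).symm.trans (congrArg _ hx)).trans (map_zero _))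
      obtain ⟨p, rfl⟩ := (range_iota (g := g) (Q := Q) y).ge he
      rw [q_liftQ_eq_zero_iff]
      refine ⟨p, ?_, rfl⟩
      rw [hrR]
      refine stB_injective (pr f b) y u ?_
      rw [map_zero, ← stB_comp, hR, stB_comp]
      exact hx
    haveI : IsIso d := isIso_of_mono_of_epi d
    exact Quo.Rel.symm ⟨asIso d, hd⟩

theorem retr_unique (h : Subsingleton (Subobject.underlying.obj K₀ ⟶ cokernel K₀.arrow))
    {r r' : GK g g₁ Q ⟶ cokernel K₀.arrow} (hr : sigma P ≫ r = 𝟙 _) (hr' : sigma P ≫ r' = 𝟙 _) : r = r' := by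
  have hS := shortExact P
  haveI := hS.epi_g
  have h0 : (ShortComplex.mk (sigma P) (rho' P) (sigma_rho' P)).f ≫ (r - r') = 0 := by
    show sigma P ≫ (r - r') = 0
    rw [Preadditive.comp_sub, hr, hr', sub_self]
  have h1 : rho' P ≫ hS.exact.desc (r - r') h0 = r - r' := hS.exact.g_desc _ h0
  rw [show hS.exact.desc (r - r') h0 = (0 : Subobject.underlying.obj K₀ ⟶ cokernel K₀.arrow) from h.elim _ _,
    comp_zero] at h1
  exact sub_eq_zero.1 h1.symm

end Groth.Agent.QuotInf

end
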