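import Groth.Agent.QuotInf.Setup
import Groth.Agent.QuotInf.Alg

/-!
Lifts of a flat quotient along a small extension are retractions of an extension on the closed fibre.
-/

set_option autoImplicit false
set_option linter.unusedSectionVars false
set_option linter.style.haveILetI false
set_option backward.isDefEq.respectTransparency false
set_option backward.isDefEq.respectTransparency.types false
set_option maxHeartbeats 1000000

universe u

open CategoryTheory CategoryTheory.Limits AlgebraicGeometry TopologicalSpace Opposite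
open Groth.Agent.KFlat (kap pushStalk)
open Groth.Agent.QuotProj (Quo)
open IsLocalRing (maximalIdeal)

noncomputable section

namespace Groth.Agent.QuotInf

variable {X S : Scheme.{u}} {f : X ⟶ S} {E : X.Modules}
variable {B A κ : Type u} [CommRing B] [IsLocalRing B] [CommRing A] [CommRing κ]

/-- A small extension of local rings with its map to the closed fibre. -/
structure Ext1Data (φ : B →+* A) (χ : B →+* κ) (t : B) : Prop where
  surjA : Function.Surjective φ
  surjK : Function.Surjective χ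
  kerA : RingHom.ker φ = Ideal.span {t}
  kerK : RingHom.ker χ = maximalIdeal B
  nil : IsNilpotent (maximalIdeal B)
  ne : t ≠ 0
  mem : t ∈ maximalIdeal B
  kill : ∀ m ∈ maximalIdeal B, m * t = 0

variable {φ : B →+* A} {χ : B →+* κ} {t : B} (D : Ext1Data φ χ t)
include D

theorem Ext1Data.isNilpotent_of_mem {x : B} (hx : x ∈ maximalIdeal B) : IsNilpotent x := by
  obtain ⟨n, hn⟩ := D.nil
  exact ⟨n, by simpa [hn] using Ideal.pow_mem_pow hx n⟩

theorem Ext1Data.nilA : ∀ x ∈ RingHom.ker φ, IsNilpotent x := fun x hx => by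
  rw [D.kerA] at hx
  obtain ⟨c, rfl⟩ := Ideal.mem_span_singleton'.1 hx
  exact D.isNilpotent_of_mem (Ideal.mul_mem_left _ c D.mem)

theorem Ext1Data.nilK : ∀ x ∈ RingHom.ker χ, IsNilpotent x := fun _ hx => D.isNilpotent_of_mem (D.kerK ▸ hx)

variable {b : Spec (CommRingCat.of B) ⟶ S} {a : Spec (CommRingCat.of A) ⟶ S}
  {s : Spec (CommRingCat.of κ) ⟶ S}
variable (g : Over.mk a ⟶ Over.mk b) (hg : g.left = Spec.map (CommRingCat.ofHom φ))
variable (g₁ : Over.mk s ⟶ Over.mk b) (hg₁ : g₁.left = Spec.map (CommRingCat.ofHom χ))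
variable (Q : Quo f E (Over.mk a))

/-- The standing flatness hypotheses. -/
structure FlatData (b : Spec (CommRingCat.of B) ⟶ S) (Q : Quo f E (Over.mk a)) : Prop where
  amb : FlatMod.IsFlatOver (pr f b) (FGA.ET f E (Over.mk b))
  quot : FlatMod.IsFlatOver (pr f a) Q.F

variable (H : FlatData b Q)

/-- The kernel of the pushed quotient on a stalk. -/
abbrev kerπ (y : ↑(PicF.XT f (Over.mk b))) : Submodule B ((stB (pr f b) y).obj (FGA.ET f E (Over.mk b))) :=
  LinearMap.ker ((stB (pr f b) y).map (pushMap g Q)).hom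

include hg H

/-- The stalk algebra of a small extension. -/
theorem stalk_alg (y : ↑(PicF.XT f (Over.mk b))) :
    letI := φ.toAlgebra
    ∃ (F : ModuleCat.{u} A), ∃ π : ((stB (pr f b) y).obj (FGA.ET f E (Over.mk b))) →ₗ[B]
        (ModuleCat.restrictScalars φ).obj F,
      Module.Flat A ((ModuleCat.restrictScalars φ).obj F) ∧ Function.Surjective π ∧
        LinearMap.ker π = kerπ g Q y := by
  haveI := isClosedImmersion_bc (pr f b) (isPullback_bc (f := f) g hg) D.surjA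
  haveI := epi_pushMap g hg D.surjA D.nilA Q
  obtain ⟨z, rfl⟩ := surjective_bc (pr f b) (isPullback_bc (f := f) g hg) D.surjA D.nilA y
  let c := PicF.XTmap f g
  let ψ : ((stB (pr f b) (c.base z)).obj ((Scheme.Modules.pushforward c).obj Q.F)) →ₗ[B]
      (ModuleCat.restrictScalars φ).obj ((stB (pr f a) z).obj Q.F) :=
    { toFun := fun v => pushStalk c z Q.F v
      map_add' := fun v w => map_add (pushStalk c z Q.F) v w
      map_smul' := fun r v => pushStalk_smulB (pr f b) (pr f a) (isPullback_bc g hg).w Q.F z r v }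
  have hψ : Function.Bijective ψ := KFlat.pushStalk_bijective c z Q.F
  refine ⟨(stB (pr f a) z).obj Q.F, ψ.comp ((stB (pr f b) (c.base z)).map (pushMap g Q)).hom,
    (flat_stB_iff (pr f a) Q.F z).1 (H.quot z), hψ.2.comp (stB_surjective _ _ _), ?_⟩
  ext v
  show ψ _ = 0 ↔ _
  rw [LinearMap.mem_ker]
  exact ⟨fun h => hψ.1 (h.trans (map_zero ψ).symm), fun h => (congrArg ψ h).trans (map_zero ψ)⟩

theorem small_alg : letI := φ.toAlgebra; Alg.Small B A t :=
  letI := φ.toAlgebra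
  ⟨D.nil, D.surjA, D.kerA, D.ne, D.mem, D.kill⟩

omit D hg in
theorem flat_amb (y : ↑(PicF.XT f (Over.mk b))) :
    Module.Flat B ((stB (pr f b) y).obj (FGA.ET f E (Over.mk b))) :=
  (flat_stB_iff (pr f b) _ y).1 (H.amb y)

theorem alg_i {y : ↑(PicF.XT f (Over.mk b))} {x : (stB (pr f b) y).obj (FGA.ET f E (Over.mk b))}
    (hx : x ∈ kerπ g Q y) (hm : x ∈ maximalIdeal B • (⊤ : Submodule B _)) :
    ∃ e, x - t • e ∈ maximalIdeal B • kerπ g Q y := by
  letI := φ.toAlgebra
  obtain ⟨F, π, hF, hπ, hk⟩ := stalk_alg D g hg Q H y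
  haveI := flat_amb Q H y
  haveI : IsScalarTower B A ((ModuleCat.restrictScalars φ).obj F) :=
    IsScalarTower.of_algebraMap_smul fun _ _ => rfl
  rw [← hk] at hx ⊢
  exact Alg.mem_of_mem_smul_top (small_alg D g hg Q H) π hπ hx hm

theorem alg_ii {y : ↑(PicF.XT f (Over.mk b))} {x : (stB (pr f b) y).obj (FGA.ET f E (Over.mk b))}
    (h : t • x ∈ maximalIdeal B • kerπ g Q y) : x ∈ kerπ g Q y ⊔ maximalIdeal B • (⊤ : Submodule B _) := by
  letI := φ.toAlgebra
  obtain ⟨F, π, hF, hπ, hk⟩ := stalk_alg D g hg Q H y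
  haveI := flat_amb Q H y
  haveI : IsScalarTower B A ((ModuleCat.restrictScalars φ).obj F) :=
    IsScalarTower.of_algebraMap_smul fun _ _ => rfl
  rw [← hk] at h ⊢
  exact Alg.mem_of_smul_mem (small_alg D g hg Q H) π hπ h

theorem alg_t_smul (y : ↑(PicF.XT f (Over.mk b))) (x : (stB (pr f b) y).obj (FGA.ET f E (Over.mk b))) :
    t • x ∈ kerπ g Q y := by
  letI := φ.toAlgebra
  obtain ⟨F, π, hF, hπ, hk⟩ := stalk_alg D g hg Q H y
  haveI := flat_amb Q H y
  haveI : IsScalarTower B A ((ModuleCat.restrictScalars φ).obj F) :=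
    IsScalarTower.of_algebraMap_smul fun _ _ => rfl
  rw [← hk]
  exact Alg.map_smul_t (small_alg D g hg Q H) π x

theorem alg_lift {y : ↑(PicF.XT f (Over.mk b))} {F₀ : Type u} [AddCommGroup F₀] [Module B F₀]
    (q₀ : (stB (pr f b) y).obj (FGA.ET f E (Over.mk b)) →ₗ[B] F₀) (hq₀ : Function.Surjective q₀)
    (hk₀ : ∀ e, q₀ e = 0 ↔ e ∈ kerπ g Q y ⊔ maximalIdeal B • (⊤ : Submodule B _))
    (r : kerπ g Q y →ₗ[B] F₀) (hr : ∀ e, r ⟨t • e, alg_t_smul D g hg Q H y e⟩ = q₀ e) :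
    Module.Flat B (_ ⧸ (LinearMap.ker r).map (kerπ g Q y).subtype) ∧
      ∀ x ∈ kerπ g Q y, ∃ e, x - t • e ∈ (LinearMap.ker r).map (kerπ g Q y).subtype := by
  letI := φ.toAlgebra
  obtain ⟨F, π, hF, hπ, hk⟩ := stalk_alg D g hg Q H y
  haveI := flat_amb Q H y
  haveI : IsScalarTower B A ((ModuleCat.restrictScalars φ).obj F) :=
    IsScalarTower.of_algebraMap_smul fun _ _ => rfl
  have key : ∀ (K : Submodule B ((stB (pr f b) y).obj (FGA.ET f E (Over.mk b)))) (_ : LinearMap.ker π = K)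
      (ht : ∀ e, t • e ∈ K) (_ : ∀ e, q₀ e = 0 ↔ e ∈ K ⊔ maximalIdeal B • ⊤) (r : K →ₗ[B] F₀)
      (_ : ∀ e, r ⟨t • e, ht e⟩ = q₀ e),
      Module.Flat B (_ ⧸ (LinearMap.ker r).map K.subtype) ∧
        ∀ x ∈ K, ∃ e, x - t • e ∈ (LinearMap.ker r).map K.subtype := by
    rintro _ rfl ht hk₀ r hr
    exact Alg.flat_lift (small_alg D g hg Q H) π hπ q₀ hq₀ hk₀ r hr
  exact key _ hk _ hk₀ r hr

theorem alg_iv {y : ↑(PicF.XT f (Over.mk b))} {M : Type u} [AddCommGroup M] [Module B M] [Module.Flat B M]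
    (q : (stB (pr f b) y).obj (FGA.ET f E (Over.mk b)) →ₗ[B] M) (hq : Function.Surjective q)
    (hv : ∀ x, q x = 0 → x ∈ kerπ g Q y) {e : (stB (pr f b) y).obj (FGA.ET f E (Over.mk b))}
    (h : t • q e = 0) : e ∈ kerπ g Q y ⊔ maximalIdeal B • (⊤ : Submodule B _) := by
  letI := φ.toAlgebra
  obtain ⟨F, π, hF, hπ, hk⟩ := stalk_alg D g hg Q H y
  haveI := flat_amb Q H y
  haveI : IsScalarTower B A ((ModuleCat.restrictScalars φ).obj F) :=
    IsScalarTower.of_algebraMap_smul fun _ _ => rfl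
  rw [← hk] at hv ⊢
  exact Alg.mem_of_lift (small_alg D g hg Q H) π q hq hv h

/-- Multiplication by `t` into the kernel of the pushed quotient. -/
theorem scB_comp_pushMap : scB (pr f b) t (FGA.ET f E (Over.mk b)) ≫ pushMap g Q = 0 :=
  hom_ext_stB (pr f b) fun y v => by
    rw [stB_comp, stB_scB, Functor.map_zero]
    exact LinearMap.mem_ker.1 (alg_t_smul D g hg Q H y v)

omit H
variable (K₀ : Subobject (FGA.ET f E (Over.mk s)))
variable (hK₀ : ((pushQ g hg D.surjA D.nilA Q).pull g₁).Rel (Quo.ofSub K₀))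

omit D hg in
/-- The quotient on the closed fibre, from the base change. -/
def q₀ : (Scheme.Modules.pullback (PicF.XTmap f g₁)).obj (FGA.ET f E (Over.mk b)) ⟶ cokernel K₀.arrow :=
  (FGA.ETiso f E g₁).hom ≫ cokernel.π K₀.arrow

omit D hg in
instance epi_q₀ : Epi (q₀ g₁ K₀ (E := E) (f := f)) := epi_comp _ _

omit D hg in
/-- The adjunct of the quotient on the closed fibre. -/
def nu : FGA.ET f E (Over.mk b) ⟶ (Scheme.Modules.pushforward (PicF.XTmap f g₁)).obj (cokernel K₀.arrow) :=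
  (Scheme.Modules.pullbackPushforwardAdjunction (PicF.XTmap f g₁)).homEquiv _ _ (q₀ g₁ K₀)

include hK₀

theorem exists_q₀_eq : ∃ e : (Scheme.Modules.pullback (PicF.XTmap f g₁)).obj
    ((Scheme.Modules.pushforward (PicF.XTmap f g)).obj Q.F) ⟶ cokernel K₀.arrow, IsIso e ∧
      q₀ g₁ K₀ = (Scheme.Modules.pullback (PicF.XTmap f g₁)).map (pushMap g Q) ≫ e := by
  obtain ⟨e, he⟩ := hK₀
  refine ⟨e.hom, inferInstanceAs (IsIso e.hom), ?_⟩
  exact ((congrArg ((FGA.ETiso f E g₁).hom ≫ ·) he).symm.trans (Category.assoc _ _ _).symm).trans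
    (congrArg (· ≫ e.hom) (ETiso_hom_comp_pull g₁ (pushQ g hg D.surjA D.nilA Q)))

include hg₁

theorem q₀_kap_eq_zero_iff (w : ↑(PicF.XT f (Over.mk s)))
    (v : (stB (pr f b) ((PicF.XTmap f g₁).base w)).obj (FGA.ET f E (Over.mk b))) :
    ((stB (pr f s) w).map (q₀ g₁ K₀)).hom (kap (PicF.XTmap f g₁) w _ v) = 0 ↔
      v ∈ kerπ g Q ((PicF.XTmap f g₁).base w) ⊔ maximalIdeal B • (⊤ : Submodule B _) := by
  obtain ⟨e, he, hqe⟩ := exists_q₀_eq D g hg g₁ Q K₀ hK₀
  haveI := he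
  haveI := epi_pushMap g hg D.surjA D.nilA Q
  let π := ((stB (pr f b) ((PicF.XTmap f g₁).base w)).map (pushMap g Q)).hom
  have hm : (maximalIdeal B • (⊤ : Submodule B _)).map π = maximalIdeal B • ⊤ := by
    rw [Submodule.map_smul'', Submodule.map_top, LinearMap.range_eq_top.2 (stB_surjective _ _ _)]
  have h1 : ((stB (pr f s) w).map (q₀ g₁ K₀)).hom (kap (PicF.XTmap f g₁) w _ v) = 0 ↔
      kap (PicF.XTmap f g₁) w ((Scheme.Modules.pushforward (PicF.XTmap f g)).obj Q.F) (π v) = 0 := by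
    rw [hqe, stB_comp]
    have hm := CompInt.kap_map (PicF.XTmap f g₁) w (pushMap g Q) v
    exact ⟨fun h => hm.symm.trans (stB_injective (pr f s) w e (h.trans (map_zero _).symm)),
      fun h => (congrArg _ (hm.trans h)).trans (map_zero _)⟩
  rw [h1, kap_eq_zero_iff (pr f b) (isPullback_bc g₁ hg₁) D.surjK w _ (π v), D.kerK, ← hm]
  constructor
  · rintro ⟨m, hm', hmv⟩
    exact Submodule.mem_sup.2 ⟨v - m, by rw [LinearMap.mem_ker, map_sub, sub_eq_zero]; exact hmv.symm, m, hm',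
      sub_add_cancel _ _⟩
  · intro hv
    obtain ⟨p, hp, m, hm', rfl⟩ := Submodule.mem_sup.1 hv
    exact ⟨m, hm', by rw [map_add, show π p = 0 from hp, zero_add]⟩

theorem nu_stalk (y : ↑(PicF.XT f (Over.mk b))) :
    Function.Surjective ((stB (pr f b) y).map (nu g₁ K₀)).hom ∧
      ∀ v, ((stB (pr f b) y).map (nu g₁ K₀)).hom v = 0 ↔
        v ∈ kerπ g Q y ⊔ maximalIdeal B • (⊤ : Submodule B _) := by
  haveI := isClosedImmersion_bc (pr f b) (isPullback_bc (f := f) g₁ hg₁) D.surjK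
  obtain ⟨w, rfl⟩ := surjective_bc (pr f b) (isPullback_bc (f := f) g₁ hg₁) D.surjK D.nilK y
  have hp := fun v => pushStalk_adjunct (pr f b) (pr f s) (nu g₁ K₀) (q₀ g₁ K₀) (adjunct_counit _ _) w v
  have hb := KFlat.pushStalk_bijective (PicF.XTmap f g₁) w (cokernel K₀.arrow)
  refine ⟨fun x => ?_, fun v => ?_⟩
  · obtain ⟨u, hu⟩ := stB_surjective (pr f s) w (q₀ g₁ K₀) (pushStalk (PicF.XTmap f g₁) w _ x)
    obtain ⟨v, rfl⟩ := GrothSS.kap_surjective (PicF.XTmap f g₁) w _ u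
    exact ⟨v, hb.1 ((hp v).trans hu)⟩
  · rw [← q₀_kap_eq_zero_iff D g hg g₁ hg₁ Q K₀ hK₀ w v]
    exact ⟨fun h => (hp v).symm.trans ((congrArg _ h).trans (map_zero _)),
      fun h => hb.1 (((hp v).trans h).trans (map_zero _).symm)⟩

end Groth.Agent.QuotInf

end
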