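import Groth.Agent.QuotInf.Tan

/-!
Linearity of the tangent of a first order lift.
-/

set_option autoImplicit false
set_option linter.unusedSectionVars false
set_option linter.style.haveILetI false
set_option backward.isDefEq.respectTransparency false
set_option backward.isDefEq.respectTransparency.types false
set_option maxHeartbeats 1000000

universe u

open CategoryTheory CategoryTheory.Limits AlgebraicGeometry TopologicalSpace Opposite
open Groth.Agent.QuotProj (Quo)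
open IsLocalRing (maximalIdeal)

noncomputable section

namespace Groth.Agent.QuotInf

section Scalars

variable {B : Type u} [CommRing B] {Y : Scheme.{u}} (p : Y ⟶ Spec (CommRingCat.of B))

theorem scB_mul (a b : B) (M : Y.Modules) : scB p (a * b) M = scB p b M ≫ scB p a M :=
  hom_ext_stB p fun y v => by rw [stB_comp, stB_scB, stB_scB, stB_scB, mul_smul]

theorem scB_zero (M : Y.Modules) : scB p 0 M = 0 :=
  hom_ext_stB p fun y v => by rw [stB_scB, zero_smul, Functor.map_zero]; rfl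

end Scalars

variable {X S : Scheme.{u}} {f : X ⟶ S} {E : X.Modules}
variable {B' B k : Type u} [CommRing B'] [CommRing B] [CommRing k]
variable {b' : Spec (CommRingCat.of B') ⟶ S} {b : Spec (CommRingCat.of B) ⟶ S} {s : Spec (CommRingCat.of k) ⟶ S}
variable {h : Over.mk b ⟶ Over.mk b'} {ρ : B' →+* B} (hh : h.left = Spec.map (CommRingCat.ofHom ρ))
variable {ret' : Over.mk b' ⟶ Over.mk s} {ret : Over.mk b ⟶ Over.mk s} (he : h ≫ ret' = ret)
variable {K₀ : Subobject (FGA.ET f E (Over.mk s))}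

/-- The identity of an inverse image. -/
abbrev Ip (h : Over.mk b ⟶ Over.mk b') (Q : Quo f E (Over.mk b')) :
    (Scheme.Modules.pullback (PicF.XTmap f h)).obj Q.F ⟶ (Q.pull h).F := 𝟙 _

theorem Ip_spec (h : Over.mk b ⟶ Over.mk b') (Q : Quo f E (Over.mk b')) : (Q.pull h).q ≫ Ip h Q = (Q.pull h).q :=
  Category.comp_id _

theorem IsScal.eq' {ε ε' : B} {Q : Quo f E (Over.mk b)}
    {w w' : (Scheme.Modules.pullback (PicF.XTmap f ret)).obj (cokernel K₀.arrow) ⟶ Q.F}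
    (hw : IsScal ret K₀ ε Q w) (e : ε = ε') (hw' : IsScal ret K₀ ε' Q w') : w = w' := by
  subst e
  exact hw.eq hw'

include hh

theorem tr_scB {F' : (PicF.XT f (Over.mk b')).Modules} {F : (PicF.XT f (Over.mk b)).Modules}
    (i : (Scheme.Modules.pullback (PicF.XTmap f h)).obj F' ⟶ F) {M : (PicF.XT f (Over.mk s)).Modules}
    (ψ : (Scheme.Modules.pullback (PicF.XTmap f ret')).obj M ⟶ F') (ε : B') :
    tr he i (ψ ≫ scB (pr f b') ε F') = tr he i ψ ≫ scB (pr f b) (ρ ε) F := by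
  rw [tr, tr, Functor.map_comp, Category.assoc, pullback_map_scB (isPullback_bc h hh).w, scB_comp]
  simp only [Category.assoc]

theorem IsScal.push {Q' : Quo f E (Over.mk b')} {Q : Quo f E (Over.mk b)}
    (i : (Scheme.Modules.pullback (PicF.XTmap f h)).obj Q'.F ⟶ Q.F) (hi : (Q'.pull h).q ≫ i = Q.q) {ε : B'}
    {w : (Scheme.Modules.pullback (PicF.XTmap f ret')).obj (cokernel K₀.arrow) ⟶ Q'.F}
    (hw : IsScal ret' K₀ ε Q' w) : IsScal ret K₀ (ρ ε) Q (tr he i w) := by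
  rw [IsScal, ← tr_map_comp, show _ ≫ w = _ from hw, tr_scB hh he, tr_qmap he i hi]

omit hh

theorem tr_thetaQ {Q' : Quo f E (Over.mk b')} {Q : Quo f E (Over.mk b)}
    (i : (Scheme.Modules.pullback (PicF.XTmap f h)).obj Q'.F ⟶ Q.F) (hi : (Q'.pull h).q ≫ i = Q.q) :
    tr he i (thetaQ ret' K₀ Q') = thetaQ ret K₀ Q := by
  rw [tr_map_comp, tr_qmap he i hi]

theorem isScal_zero (Q : Quo f E (Over.mk b)) : IsScal ret K₀ (0 : B) Q 0 := by
  rw [IsScal, scB_zero, comp_zero, comp_zero]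

theorem isScal_mul {Q : Quo f E (Over.mk b)} {ε : B}
    {w : (Scheme.Modules.pullback (PicF.XTmap f ret)).obj (cokernel K₀.arrow) ⟶ Q.F} (hw : IsScal ret K₀ ε Q w)
    (c : B) : IsScal ret K₀ (c * ε) Q (w ≫ scB (pr f b) c Q.F) := by
  rw [IsScal, ← Category.assoc, show _ ≫ w = _ from hw, Category.assoc, scB_mul]

theorem map_add_pullback {Y Z : Scheme.{u}} (c : Y ⟶ Z) {M N : Z.Modules} (φ ψ : M ⟶ N) :
    (Scheme.Modules.pullback c).map (φ + ψ) = (Scheme.Modules.pullback c).map φ + (Scheme.Modules.pullback c).map ψ := by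
  haveI := (Scheme.Modules.pullbackPushforwardAdjunction c).left_adjoint_additive
  exact Functor.map_add _

/-- Scalar changes of the base scale the tangent. -/
theorem tan_smul {sect : k →+* B} (hret : ret.left = Spec.map (CommRingCat.ofHom sect))
    {h : Over.mk b ⟶ Over.mk b} {ρ : B →+* B} (hh : h.left = Spec.map (CommRingCat.ofHom ρ)) (he : h ≫ ret = ret)
    {t : B} {c : k} (hρ : ρ t = sect c * t) {Q : Quo f E (Over.mk b)}
    {φ : Subobject.underlying.obj K₀ ⟶ cokernel K₀.arrow} (hφ : Tan ret K₀ t Q φ)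
    {w₁ : (Scheme.Modules.pullback (PicF.XTmap f ret)).obj (cokernel K₀.arrow) ⟶ (Q.pull h).F}
    (hw₁ : IsScal ret K₀ t (Q.pull h) w₁) :
    Tan ret K₀ t (Q.pull h) (scB (pr f s) c _ ≫ φ) := by
  obtain ⟨w, hw, hθ⟩ := hφ
  have hp : tr he (Ip h Q) w = w₁ ≫ scB (pr f b) (sect c) _ := by
    refine IsScal.eq ?_ (isScal_mul hw₁ (sect c))
    rw [← hρ]
    exact hw.push hh he (Ip h Q) (Ip_spec h Q)
  refine ⟨w₁, hw₁, ?_⟩
  rw [← tr_thetaQ he (Ip h Q) (Ip_spec h Q), hθ, tr_map_comp, hp, ← scB_comp, ← Category.assoc,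
    ← pullback_map_scB (c := PicF.XTmap f ret) (p := pr f s) (isPullback_bc ret hret).w, ← Functor.map_comp,
    scB_comp]

section Add

variable [IsLocalRing B'] {χ' : B' →+* k} (g' : Over.mk s ⟶ Over.mk b') (hr' : g' ≫ ret' = 𝟙 _)
  (hg' : g'.left = Spec.map (CommRingCat.ofHom χ')) (hχ' : Function.Surjective χ')
  (hker' : RingHom.ker χ' = maximalIdeal B') (hnil' : IsNilpotent (maximalIdeal B'))
include hr' hg' hχ' hker' hnil'

/-- The tangent is additive. -/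
theorem tan_add [Nontrivial B] {t₁ t₂ : B'} (ht₁ : ∀ m ∈ maximalIdeal B', m * t₁ = 0)
    (ht₂ : ∀ m ∈ maximalIdeal B', m * t₂ = 0) {ρ₁ ρ₂ ρ₃ : B' →+* B} (hs₁ : Function.Surjective ρ₁)
    (hs₂ : Function.Surjective ρ₂) {t : B} (h11 : ρ₁ t₁ = t) (h12 : ρ₁ t₂ = 0) (h21 : ρ₂ t₁ = 0) (h22 : ρ₂ t₂ = t)
    (h31 : ρ₃ t₁ = t) (h32 : ρ₃ t₂ = t)
    (hinj : ∀ (M : Type u) [AddCommGroup M] [Module B' M] [Module.Flat B' M] (x : M),
      x ∈ RingHom.ker ρ₁ • (⊤ : Submodule B' M) → x ∈ RingHom.ker ρ₂ • (⊤ : Submodule B' M) → x = 0)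
    {h₁ h₂ h₃ : Over.mk b ⟶ Over.mk b'} (hh₁ : h₁.left = Spec.map (CommRingCat.ofHom ρ₁))
    (hh₂ : h₂.left = Spec.map (CommRingCat.ofHom ρ₂)) (hh₃ : h₃.left = Spec.map (CommRingCat.ofHom ρ₃))
    (he₁ : h₁ ≫ ret' = ret) (he₂ : h₂ ≫ ret' = ret) (he₃ : h₃ ≫ ret' = ret)
    {Q : Quo f E (Over.mk b')} (hflat : FlatMod.IsFlatOver (pr f b') Q.F) (hQ : (Q.pull g').Rel (Quo.ofSub K₀))
    {φ₁ φ₂ : Subobject.underlying.obj K₀ ⟶ cokernel K₀.arrow}
    (hφ₁ : Tan ret K₀ t (Q.pull h₁) φ₁) (hφ₂ : Tan ret K₀ t (Q.pull h₂) φ₂) :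
    Tan ret K₀ t (Q.pull h₃) (φ₁ + φ₂) := by
  obtain ⟨w₁, hw₁⟩ := exists_isScal g' ret' hr' K₀ hg' hχ' hker' hnil' hQ ht₁
  obtain ⟨w₂, hw₂⟩ := exists_isScal g' ret' hr' K₀ hg' hχ' hker' hnil' hQ ht₂
  let π' := Scheme.Modules.pullback (PicF.XTmap f ret')
  let D := thetaQ ret' K₀ Q - π'.map φ₁ ≫ w₁ - π'.map φ₂ ≫ w₂
  have hker : ∀ (ρ : B' →+* B), ∀ x ∈ RingHom.ker ρ, IsNilpotent x := fun ρ x hx => by
    obtain ⟨n, hn⟩ := hnil'
    have h1 : x ^ n ∈ maximalIdeal B' ^ n :=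
      Ideal.pow_mem_pow (IsLocalRing.le_maximalIdeal (RingHom.ker_ne_top ρ) hx) n
    rw [hn] at h1
    exact ⟨n, h1⟩
  have hD₁ : tr he₁ (Ip h₁ Q) D = 0 := by
    obtain ⟨w, hw, hθ⟩ := hφ₁
    rw [tr_sub, tr_sub, tr_thetaQ he₁ (Ip h₁ Q) (Ip_spec h₁ Q), tr_map_comp, tr_map_comp,
      IsScal.eq' (hw₁.push hh₁ he₁ (Ip h₁ Q) (Ip_spec h₁ Q)) h11 hw,
      IsScal.eq' (hw₂.push hh₁ he₁ (Ip h₁ Q) (Ip_spec h₁ Q)) h12 (isScal_zero _), hθ, comp_zero, sub_self,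
      sub_self]
  have hD₂ : tr he₂ (Ip h₂ Q) D = 0 := by
    obtain ⟨w, hw, hθ⟩ := hφ₂
    rw [tr_sub, tr_sub, tr_thetaQ he₂ (Ip h₂ Q) (Ip_spec h₂ Q), tr_map_comp, tr_map_comp,
      IsScal.eq' (hw₁.push hh₂ he₂ (Ip h₂ Q) (Ip_spec h₂ Q)) h21 (isScal_zero _),
      IsScal.eq' (hw₂.push hh₂ he₂ (Ip h₂ Q) (Ip_spec h₂ Q)) h22 hw, hθ, comp_zero, sub_zero, sub_self]
  have hD : D = 0 := hom_ext_stB (pr f b') fun y v => by
    haveI := (flat_stB_iff (pr f b') Q.F y).1 (hflat y)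
    rw [Functor.map_zero]
    exact hinj _ _
      (stB_mem_of_pullback_eq_zero (isPullback_bc h₁ hh₁) hs₁ (hker _) D (tr_eq_zero he₁ _ hD₁) y v)
      (stB_mem_of_pullback_eq_zero (isPullback_bc h₂ hh₂) hs₂ (hker _) D (tr_eq_zero he₂ _ hD₂) y v)
  have hθ : thetaQ ret' K₀ Q = π'.map φ₁ ≫ w₁ + π'.map φ₂ ≫ w₂ := by
    rw [← sub_eq_zero, ← sub_sub]
    exact hD
  have hw : IsScal ret K₀ t (Q.pull h₃) (tr he₃ (Ip h₃ Q) w₁) := by
    have h0 := hw₁.push hh₃ he₃ (Ip h₃ Q) (Ip_spec h₃ Q)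
    rwa [h31] at h0
  refine ⟨_, hw, ?_⟩
  rw [← tr_thetaQ he₃ (Ip h₃ Q) (Ip_spec h₃ Q), hθ, tr_add, tr_map_comp, tr_map_comp,
    IsScal.eq' (hw₂.push hh₃ he₃ (Ip h₃ Q) (Ip_spec h₃ Q)) h32 hw, ← Preadditive.add_comp, map_add_pullback]

end Add

end Groth.Agent.QuotInf

end
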