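import Groth.Agent.QuotInf.Artin
import Groth.Agent.QuotProj.General
import Groth.Agent.InfLift.LocalLift
import Groth.Agent.InfLift.SchemeSmallExt

/-!
Smoothness of Quot schemes at points with vanishing `Ext¹`.
-/

set_option autoImplicit false
set_option linter.unusedSectionVars false
set_option linter.style.haveILetI false
set_option backward.isDefEq.respectTransparency false
set_option backward.isDefEq.respectTransparency.types false
set_option maxHeartbeats 1000000

universe u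

open CategoryTheory CategoryTheory.Limits AlgebraicGeometry TopologicalSpace
open Groth.Agent.QuotProj (Quo)
open IsLocalRing (maximalIdeal closedPoint)

noncomputable section

namespace Groth.Agent.QuotInf

variable {X S : Scheme.{u}} {f : X ⟶ S} {E : X.Modules}

theorem exists_iso_of_rep [LocallyOfFiniteType f] {Q Q' : Over S} {K : FGA.QuotSet f E Q}
    {K' : FGA.QuotSet f E Q'} (h : FGA.QuotRepresentedBy f E Q K) (h' : FGA.QuotRepresentedBy f E Q' K') :
    ∃ e : Q ≅ Q', FGA.quotPull f E e.hom K'.1 = K.1 := by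
  haveI := h.1
  haveI := h'.1
  obtain ⟨a, ha, -⟩ := h'.2 Q K
  obtain ⟨b, hb, -⟩ := h.2 Q' K'
  refine ⟨⟨a, b, ?_, ?_⟩, ha⟩
  · exact (h.2 Q K).unique (by rw [← quotPull_comp, hb, ha]) (quotPull_id _)
  · exact (h'.2 Q' K').unique (by rw [← quotPull_comp, ha, hb]) (quotPull_id _)

theorem locallyOfFiniteType_quot [IsNoetherian S] (hE : Coh.IsCoh E)
    (hproj : ∃ (n : ℕ) (c : X ⟶ CohB1.ProjSpaceOver n S), IsClosedImmersion c ∧
      c ≫ CohB1.ProjSpaceOver.toBase n S = f)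
    {Q : Over S} {K : FGA.QuotSet f E Q} (hQ : FGA.QuotRepresentedBy f E Q K) :
    LocallyOfFiniteType Q.hom := by
  obtain ⟨n, c, hc, rfl⟩ := hproj
  haveI := hc
  obtain ⟨Q', K', hQ', ι, P, e, hP⟩ := QuotProj.exists_quot_proper c hE
  haveI : IsProper (CohB1.ProjSpaceOver.toBase n S) := HQProj.isProper_toBase n S
  obtain ⟨a, -⟩ := exists_iso_of_rep hQ hQ'
  haveI : LocallyOfFiniteType Q'.hom := by
    rw [← MorphismProperty.cancel_left_of_respectsIso @LocallyOfFiniteType e.hom,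
      IsZariskiLocalAtSource.iff_of_openCover (P := @LocallyOfFiniteType) (sigmaOpenCover P)]
    intro i
    haveI := hP i
    exact inferInstanceAs (LocallyOfFiniteType (Limits.Sigma.ι P i ≫ e.hom ≫ Q'.hom))
  rw [← Over.w a.hom]
  infer_instance

/-- A rational point has surjective evaluation. -/
theorem surjective_eval_of_section {k : Type u} [Field k] {Y : Scheme.{u}} (p : Y ⟶ Spec (CommRingCat.of k))
    (y : Spec (CommRingCat.of k) ⟶ Y) (h : y ≫ p = 𝟙 _) {a : Y.presheaf.stalk (y (closedPoint k)) ⟶ CommRingCat.of k}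
    (ha : Spec.map a ≫ Y.fromSpecStalk _ = y) : Function.Surjective a.hom := by
  obtain ⟨c, hc⟩ : ∃ c : CommRingCat.of k ⟶ Y.presheaf.stalk (y (closedPoint k)),
      Spec.map c = Y.fromSpecStalk _ ≫ p := ⟨_, Spec.map_preimage _⟩
  have h1 : c ≫ a = 𝟙 _ := Spec.map_injective (by
    rw [Spec.map_comp, Spec.map_id, hc, reassoc_of% ha, h])
  exact fun v => ⟨c v, congrArg (fun φ => φ.hom v) h1⟩

variable {k : Type u} [Field k]

/-- The residue map of the thickening at a rational point. -/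
theorem exists_residue {Y : Scheme.{u}} {y : Y} {B : Type u} [CommRing B] [IsLocalRing B]
    {a : Y.presheaf.stalk y ⟶ CommRingCat.of B} (ha : Function.Surjective a.hom)
    {e : Y.presheaf.stalk y ⟶ CommRingCat.of k} (he : Function.Surjective e.hom) :
    ∃ χ : B →+* k, Function.Surjective χ ∧ a ≫ CommRingCat.ofHom χ = e := by
  have hle : RingHom.ker a.hom ≤ RingHom.ker e.hom := by
    rw [IsLocalRing.eq_maximalIdeal (RingHom.ker_isMaximal_of_surjective e.hom he)]
    exact IsLocalRing.le_maximalIdeal (RingHom.ker_ne_top _)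
  have h1 : (RingHom.liftOfSurjective a.hom ha ⟨e.hom, hle⟩).comp a.hom = e.hom :=
    RingHom.liftOfSurjective_comp a.hom ha _
  exact ⟨_, fun v => by
    obtain ⟨w, rfl⟩ := he v
    exact ⟨a w, RingHom.congr_fun h1 w⟩, CommRingCat.hom_ext h1⟩

theorem mem_smoothLocus_quot [IsLocallyNoetherian S] [LocallyOfFiniteType f] (σ : S ⟶ Spec (CommRingCat.of k))
    (hEc : Coh.IsCoh E) (hEf : FlatMod.IsFlatOver f E) {Q : Over S} [LocallyOfFiniteType Q.hom]
    [LocallyOfFinitePresentation Q.hom] (Ku : FGA.QuotSet f E Q) (hQ : FGA.QuotRepresentedBy f E Q Ku)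
    (s : Spec (CommRingCat.of k) ⟶ S) (hs : s ≫ σ = 𝟙 _)
    (K₀ : FGA.QuotSet f E (Over.mk s)) (g : Over.mk s ⟶ Q) (hg : FGA.quotPull f E g Ku.1 = K₀.1)
    [HasExt.{u} (PicF.XT f (Over.mk s)).Modules]
    (hExt : Subsingleton (Abelian.Ext.{u} (Subobject.underlying.obj K₀.1) (cokernel K₀.1.arrow) 1)) :
    g.left (closedPoint k) ∈ Q.hom.smoothLocus := by
  obtain ⟨_, ⟨V, hV, rfl⟩, hxV, -⟩ :=
    S.isBasis_affineOpens.exists_subset_of_mem_open (Set.mem_univ (Q.hom (g.left (closedPoint k)))) isOpen_univ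
  obtain ⟨_, ⟨U, hU, rfl⟩, hx, e⟩ :=
    Q.left.isBasis_affineOpens.exists_subset_of_mem_open hxV (V.2.preimage Q.hom.continuous)
  refine InfLift.mem_smoothLocus_of_small_lift Q.hom hV hU e hx ?_
  intro B' B _ _ _ _ _ _ π hπ ⟨t, ht, hann⟩ α β hα hsurj _ comm
  by_cases ht0 : t = 0
  · have hinj : Function.Injective π := by
      rw [RingHom.injective_iff_ker_eq_bot, ht, ht0, Ideal.span_singleton_eq_bot.2 rfl]
    haveI : IsIso (CommRingCat.ofHom π) :=
      Iso.isIso_hom (RingEquiv.ofBijective π ⟨hinj, hπ⟩).toCommRingCatIso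
    exact ⟨inv (Spec.map (CommRingCat.ofHom π)) ≫ α, IsIso.hom_inv_id_assoc _ _,
      by rw [Category.assoc, IsIso.inv_comp_eq, comm]⟩
  -- the residue map
  obtain ⟨a, -, haα, hasurj⟩ := InfLift.exists_stalk_hom α hα
  obtain ⟨e₀, -, he₀, -⟩ := InfLift.exists_stalk_hom g.left (x := g.left (closedPoint k)) rfl
  have hgs : g.left ≫ Q.hom = s := Over.w g
  have he₀s : Function.Surjective e₀.hom :=
    surjective_eval_of_section (Q.hom ≫ σ) g.left (by rw [reassoc_of% hgs, hs]) he₀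
  obtain ⟨χ, hχ, hχa⟩ := exists_residue (hasurj hsurj) he₀s
  have hgα : Spec.map (CommRingCat.ofHom χ) ≫ α = g.left := by
    rw [← haα, ← Spec.map_comp_assoc, hχa, he₀]
  have htm : t ∈ maximalIdeal B' := by
    refine IsLocalRing.le_maximalIdeal (RingHom.ker_ne_top π) ?_
    rw [ht]; exact Ideal.mem_span_singleton_self t
  have D : Ext1Data π (χ.comp π) t := by
    refine ⟨hπ, hχ.comp hπ, ht, ?_, ?_, ht0, htm, hann⟩
    · exact IsLocalRing.eq_maximalIdeal (RingHom.ker_isMaximal_of_surjective _ (hχ.comp hπ))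
    · rw [← IsLocalRing.jacobson_eq_maximalIdeal (⊥ : Ideal B') bot_ne_top]
      exact IsArtinianRing.isNilpotent_jacobson_bot
  -- the families
  let αO : Over.mk (α ≫ Q.hom) ⟶ Q := Over.homMk α rfl
  let g₀ : Over.mk s ⟶ Over.mk (α ≫ Q.hom) :=
    Over.homMk (Spec.map (CommRingCat.ofHom χ)) ((Category.assoc _ _ _).symm.trans ((congrArg (· ≫ Q.hom) hgα).trans hgs))
  let gπ : Over.mk (α ≫ Q.hom) ⟶ Over.mk β := Over.homMk (Spec.map (CommRingCat.ofHom π)) comm
  have hg₀ : g₀ ≫ αO = g := Over.OverMorphism.ext hgα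
  haveI : IsLocallyNoetherian (Over.mk (α ≫ Q.hom)).left :=
    inferInstanceAs (IsLocallyNoetherian (Spec (CommRingCat.of B)))
  haveI : IsLocallyNoetherian (Over.mk β).left :=
    inferInstanceAs (IsLocallyNoetherian (Spec (CommRingCat.of B')))
  obtain ⟨K', hK'⟩ := exists_lift_small D gπ rfl g₀
    (show Spec.map (CommRingCat.ofHom χ) ≫ Spec.map (CommRingCat.ofHom π) = _ by
      rw [← Spec.map_comp, ← CommRingCat.ofHom_comp])
    (flat_ET hEf _) (qpull αO Ku) K₀ (by rw [qpull_val, quotPull_comp, hg₀, hg]) hEc hExt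
  obtain ⟨γ, hγ, -⟩ := hQ.2 (Over.mk β) K'
  have h1 : gπ ≫ γ = αO := (hQ.2 _ (qpull αO Ku)).unique
    (by rw [← quotPull_comp, hγ, hK']) (qpull_val αO Ku).symm
  exact ⟨γ.left, congrArg (fun q => q.left) h1, Over.w γ⟩

theorem exists_smooth_nhd [IsNoetherian S] (σ : S ⟶ Spec (CommRingCat.of k))
    (hproj : ∃ (n : ℕ) (c : X ⟶ CohB1.ProjSpaceOver n S), IsClosedImmersion c ∧
      c ≫ CohB1.ProjSpaceOver.toBase n S = f)
    (hEc : Coh.IsCoh E) (hEf : FlatMod.IsFlatOver f E) {Q : Over S}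
    (Ku : FGA.QuotSet f E Q) (hQ : FGA.QuotRepresentedBy f E Q Ku)
    (s : Spec (CommRingCat.of k) ⟶ S) (hs : s ≫ σ = 𝟙 _)
    (K₀ : FGA.QuotSet f E (Over.mk s)) (g : Over.mk s ⟶ Q) (hg : FGA.quotPull f E g Ku.1 = K₀.1)
    [HasExt.{u} (PicF.XT f (Over.mk s)).Modules]
    (hExt : Subsingleton (Abelian.Ext.{u} (Subobject.underlying.obj K₀.1) (cokernel K₀.1.arrow) 1)) :
    ∃ U : Q.left.Opens, g.left (closedPoint k) ∈ U ∧ Smooth (U.ι ≫ Q.hom) := by
  haveI := locallyOfFiniteType_quot hEc hproj hQ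
  haveI := InfLift.lfp_of_lft Q.hom
  haveI : LocallyOfFiniteType f := by
    obtain ⟨n, c, hc, rfl⟩ := hproj
    haveI := hc
    haveI : IsProper (CohB1.ProjSpaceOver.toBase n S) := HQProj.isProper_toBase n S
    infer_instance
  exact ⟨_, mem_smoothLocus_quot σ hEc hEf Ku hQ s hs K₀ g hg hExt, InfLift.smooth_ι_smoothLocus _⟩

end Groth.Agent.QuotInf

end
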