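import Groth.Agent.QuotInf.TanPts
import Groth.Agent.QuotInf.DerDual
import Groth.Agent.QuotInf.Smooth

/-!
The tangent space of the fibre of a Quot scheme at a rational point.
-/

set_option autoImplicit false
set_option linter.unusedSectionVars false
set_option linter.style.haveILetI false
set_option backward.isDefEq.respectTransparency false
set_option backward.isDefEq.respectTransparency.types false
set_option maxHeartbeats 1000000

universe u

open CategoryTheory CategoryTheory.Limits AlgebraicGeometry TopologicalSpace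
open Groth.Agent.QuotProj (Quo)
open IsLocalRing (maximalIdeal closedPoint)
open TrivSqZeroExt (inl inr fst snd inlHom)

noncomputable section

namespace Groth.Agent.QuotInf

variable {k : Type u} [Field k] {V : Type u} [AddCommGroup V] [Module k V] [Module kᵐᵒᵖ V] [IsCentralScalar k V]
variable {X S : Scheme.{u}} {f : X ⟶ S} {E : X.Modules} {s : Spec (CommRingCat.of k) ⟶ S} {Q : Over S}
variable {Z : Scheme.{u}} {j : Z ⟶ Q.left} {p : Z ⟶ Spec (CommRingCat.of k)} (sq : IsPullback j p Q.hom s)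

/-- The point in a first order neighbourhood given by a map of the local ring of the fibre. -/
def pointOf {z : Z} {c : CommRingCat.of k ⟶ Z.presheaf.stalk z} (hc : Spec.map c = Z.fromSpecStalk z ≫ p)
    (a : Z.presheaf.stalk z →+* TrivSqZeroExt k V) (ha : a.comp c.hom = inlHom k V) :
    Over.mk (baseV s V) ⟶ Q :=
  Over.homMk (Spec.map (CommRingCat.ofHom a) ≫ Z.fromSpecStalk z ≫ j) (by
    show (Spec.map (CommRingCat.ofHom a) ≫ Z.fromSpecStalk z ≫ j) ≫ Q.hom = Spec.map (CommRingCat.ofHom (inlHom k V)) ≫ s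
    rw [Category.assoc, Category.assoc, sq.w, ← Category.assoc (Z.fromSpecStalk z), ← hc, ← Spec.map_comp_assoc]
    rw [show c ≫ CommRingCat.ofHom a = CommRingCat.ofHom (inlHom k V) from CommRingCat.hom_ext ha])

variable {z : Z} {c : CommRingCat.of k ⟶ Z.presheaf.stalk z} (hc : Spec.map c = Z.fromSpecStalk z ≫ p)

theorem mapV_pointOf {W : Type u} [AddCommGroup W] [Module k W] [Module kᵐᵒᵖ W] [IsCentralScalar k W]
    (L : V →ₗ[k] W) (a : Z.presheaf.stalk z →+* TrivSqZeroExt k V) (ha : a.comp c.hom = inlHom k V)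
    (a' : Z.presheaf.stalk z →+* TrivSqZeroExt k W) (ha' : a'.comp c.hom = inlHom k W)
    (h : (sqzMap L).comp a = a') : mapV s L ≫ pointOf sq hc a ha = pointOf sq hc a' ha' := by
  subst h
  refine Over.OverMorphism.ext ?_
  show Spec.map (CommRingCat.ofHom (sqzMap L)) ≫ Spec.map (CommRingCat.ofHom a) ≫ _ = Spec.map _ ≫ _
  rw [← Spec.map_comp_assoc, ← CommRingCat.ofHom_comp]

theorem pointV_pointOf {e : Z.presheaf.stalk z →+* k} {g : Over.mk s ⟶ Q}
    (he : Spec.map (CommRingCat.ofHom e) ≫ Z.fromSpecStalk z ≫ j = g.left)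
    (a : Z.presheaf.stalk z →+* TrivSqZeroExt k V) (ha : a.comp c.hom = inlHom k V) (hfa : (aug k V).comp a = e) :
    pointV s V ≫ pointOf sq hc a ha = g := by
  refine Over.OverMorphism.ext ?_
  show Spec.map (CommRingCat.ofHom (aug k V)) ≫ Spec.map (CommRingCat.ofHom a) ≫ _ = _
  rw [← Spec.map_comp_assoc, ← CommRingCat.ofHom_comp, hfa, he]

theorem pointOf_injective {a a' : Z.presheaf.stalk z →+* TrivSqZeroExt k V} (ha : a.comp c.hom = inlHom k V)
    (ha' : a'.comp c.hom = inlHom k V) (h : pointOf sq hc a ha = pointOf sq hc a' ha') : a = a' := by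
  have h1 : Spec.map (CommRingCat.ofHom a) ≫ Z.fromSpecStalk z = Spec.map (CommRingCat.ofHom a') ≫ Z.fromSpecStalk z := by
    apply sq.hom_ext
    · rw [Category.assoc, Category.assoc]
      exact congrArg (fun q => q.left) h
    · rw [Category.assoc, Category.assoc, ← hc, ← Spec.map_comp, ← Spec.map_comp,
        show c ≫ CommRingCat.ofHom a = c ≫ CommRingCat.ofHom a' from CommRingCat.hom_ext (ha.trans ha'.symm)]
  exact congrArg CommRingCat.Hom.hom (Spec.map_injective ((cancel_mono _).1 h1))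

theorem exists_pointOf {e : Z.presheaf.stalk z →+* k} {g : Over.mk s ⟶ Q}
    (he : Spec.map (CommRingCat.ofHom e) ≫ Z.fromSpecStalk z ≫ j = g.left)
    (hez : (Spec.map (CommRingCat.ofHom e) ≫ Z.fromSpecStalk z) (closedPoint k) = z)
    (hec : e.comp c.hom = RingHom.id k)
    (γ : Over.mk (baseV s V) ⟶ Q) (hγ : pointV s V ≫ γ = g) :
    ∃ (a : Z.presheaf.stalk z →+* TrivSqZeroExt k V) (ha : a.comp c.hom = inlHom k V),
      (aug k V).comp a = e ∧ pointOf sq hc a ha = γ := by
  obtain ⟨δ, hδ₁, hδ₂⟩ : ∃ δ : Spec (CommRingCat.of (TrivSqZeroExt k V)) ⟶ Z,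
      δ ≫ j = γ.left ∧ δ ≫ p = Spec.map (CommRingCat.ofHom (inlHom k V)) :=
    ⟨sq.lift γ.left _ (Over.w γ), sq.lift_fst _ _ _, sq.lift_snd _ _ _⟩
  have h1 : Spec.map (CommRingCat.ofHom (aug k V)) ≫ δ = Spec.map (CommRingCat.ofHom e) ≫ Z.fromSpecStalk z := by
    apply sq.hom_ext
    · rw [Category.assoc, Category.assoc, hδ₁, he]
      exact congrArg (fun q => q.left) hγ
    · rw [Category.assoc, Category.assoc, hδ₂, ← hc, ← Spec.map_comp, ← Spec.map_comp]
      congr 1
      refine CommRingCat.hom_ext ?_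
      exact (aug_inlHom k V).trans hec.symm
  have hδz : δ (closedPoint (TrivSqZeroExt k V)) = z := by
    rw [← InfLift.closedPoint_specMap (aug k V) (aug_surjective k V), ← Scheme.Hom.comp_apply, h1, hez]
  obtain ⟨a, -, ha, -⟩ := InfLift.exists_stalk_hom δ hδz
  have hca : a.hom.comp c.hom = inlHom k V := by
    have h2 : c ≫ a = CommRingCat.ofHom (inlHom k V) :=
      Spec.map_injective (by rw [Spec.map_comp, hc, reassoc_of% ha, hδ₂])
    exact congrArg CommRingCat.Hom.hom h2
  refine ⟨a.hom, hca, ?_, ?_⟩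
  · refine congrArg CommRingCat.Hom.hom (show a ≫ CommRingCat.ofHom (aug k V) = CommRingCat.ofHom e from
      Spec.map_injective ((cancel_mono (Z.fromSpecStalk z)).1 ?_))
    rw [Spec.map_comp, Category.assoc, ha, h1]
  · refine Over.OverMorphism.ext ?_
    show Spec.map a ≫ Z.fromSpecStalk z ≫ j = γ.left
    rw [reassoc_of% ha, hδ₁]

include sq in
theorem finrank_cotangent_fibre [LocallyOfFiniteType f] (hEc : Coh.IsCoh E) (hEf : FlatMod.IsFlatOver f E)
    (Ku : FGA.QuotSet f E Q) (hQ : FGA.QuotRepresentedBy f E Q Ku) (K₀ : FGA.QuotSet f E (Over.mk s))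
    (g : Over.mk s ⟶ Q) (hg : FGA.quotPull f E g Ku.1 = K₀.1)
    (zs : Spec (CommRingCat.of k) ⟶ Z) (hzp : zs ≫ p = 𝟙 _) (hzj : zs ≫ j = g.left)
    (hz : zs (closedPoint k) = z) :
    Module.finrank (IsLocalRing.ResidueField (Z.presheaf.stalk z)) (IsLocalRing.CotangentSpace (Z.presheaf.stalk z)) =
      (letI : (PicF.XT f (Over.mk s)).Over (Spec (CommRingCat.of k)) := ⟨PicF.XTproj f (Over.mk s)⟩
      Module.finrank k (Subobject.underlying.obj K₀.1 ⟶ cokernel K₀.1.arrow)) := by
  obtain ⟨c, hc⟩ : ∃ c : CommRingCat.of k ⟶ Z.presheaf.stalk z, Spec.map c = Z.fromSpecStalk z ≫ p :=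
    ⟨_, Spec.map_preimage _⟩
  obtain ⟨e, -, he', -⟩ := InfLift.exists_stalk_hom zs hz
  have hce : c ≫ e = 𝟙 _ := Spec.map_injective (by rw [Spec.map_comp, Spec.map_id, hc, reassoc_of% he', hzp])
  have hec : e.hom.comp c.hom = RingHom.id k := congrArg CommRingCat.Hom.hom hce
  have he : Spec.map (CommRingCat.ofHom e.hom) ≫ Z.fromSpecStalk z ≫ j = g.left :=
    (reassoc_of% he') j |>.trans hzj
  have hez : (Spec.map (CommRingCat.ofHom e.hom) ≫ Z.fromSpecStalk z) (closedPoint k) = z := by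
    rw [show Spec.map (CommRingCat.ofHom e.hom) ≫ Z.fromSpecStalk z = zs from he', hz]
  letI algO : Algebra k (Z.presheaf.stalk z) := c.hom.toAlgebra
  letI algK : Algebra (Z.presheaf.stalk z) k := e.hom.toAlgebra
  haveI : IsScalarTower k (Z.presheaf.stalk z) k :=
    IsScalarTower.of_algebraMap_eq fun x => (RingHom.congr_fun hec x).symm
  letI : (PicF.XT f (Over.mk s)).Over (Spec (CommRingCat.of k)) := ⟨PicF.XTproj f (Over.mk s)⟩
  rw [← finrank_derivation k (Z.presheaf.stalk z)]
  let γ : Derivation k (Z.presheaf.stalk z) k → (Over.mk (baseV s k) ⟶ Q) := fun D =>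
    pointOf sq hc (derHom D) (derHom_algebraMap D)
  have hγ : ∀ D, pointV s k ≫ γ D = g := fun D => pointV_pointOf sq hc he _ _ (derHom_fst D)
  choose φ hφ using fun D => exists_isTangent s hEf Ku g hg (hγ D)
  have hu : ∀ D {ψ}, IsTangent s Ku (γ D) ψ → φ D = ψ := fun D ψ h =>
    isTangent_unique s hEf Ku g hg (hγ D) (hφ D) h
  have hsmul : ∀ (a : k) D, φ (a • D) = a • φ D := fun a D => by
    have h1 := isTangent_smul s hEf Ku g hg (hγ D) a (hφ D)
    rw [mapV_pointOf sq hc (a • LinearMap.id) (derHom D) (derHom_algebraMap D) (derHom (a • D)) (derHom_algebraMap _) (RingHom.ext fun r => TrivSqZeroExt.ext (TrivSqZeroExt.fst_map _ _) (TrivSqZeroExt.snd_map _ _))] at h1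
    rw [hu _ h1]
    show scB (pr f s) a _ ≫ φ D = Formal.smulMod k _ a ≫ φ D
    congr 1
  have hadd : ∀ D D', φ (D + D') = φ D + φ D' := fun D D' => by
    have h0 : pointV s (k × k) ≫ pointOf sq hc (derHom2 D D') (derHom2_algebraMap D D') = g :=
      pointV_pointOf sq hc he _ _ (derHom2_fst D D')
    refine hu _ ?_
    have h1 := isTangent_add s hEf Ku g hg h0 (φ₁ := φ D) (φ₂ := φ D')
      (by rw [mapV_pointOf sq hc (LinearMap.fst k k k) (derHom2 D D') (derHom2_algebraMap D D') (derHom D) (derHom_algebraMap _) (RingHom.ext fun r => TrivSqZeroExt.ext (TrivSqZeroExt.fst_map _ _) (TrivSqZeroExt.snd_map _ _))]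
          exact hφ D)
      (by rw [mapV_pointOf sq hc (LinearMap.snd k k k) (derHom2 D D') (derHom2_algebraMap D D') (derHom D') (derHom_algebraMap _) (RingHom.ext fun r => TrivSqZeroExt.ext (TrivSqZeroExt.fst_map _ _) (TrivSqZeroExt.snd_map _ _))]
          exact hφ D')
    rwa [mapV_pointOf sq hc (LinearMap.fst k k k + LinearMap.snd k k k) (derHom2 D D') (derHom2_algebraMap D D') (derHom (D + D')) (derHom_algebraMap _) (RingHom.ext fun r => TrivSqZeroExt.ext (TrivSqZeroExt.fst_map _ _) (TrivSqZeroExt.snd_map _ _))] at h1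
  let Φ : Derivation k (Z.presheaf.stalk z) k →ₗ[k] (Subobject.underlying.obj K₀.1 ⟶ cokernel K₀.1.arrow) :=
    { toFun := φ, map_add' := hadd, map_smul' := hsmul }
  refine (LinearEquiv.ofBijective Φ ⟨fun D D' h => ?_, fun ψ => ?_⟩).finrank_eq
  · have h1 : γ D = γ D' := eq_of_isTangent s hEf Ku g hg hQ (hγ D) (hγ D') (hφ D) (by rw [show φ D = φ D' from h]; exact hφ D')
    exact Derivation.ext fun r =>
      congrArg TrivSqZeroExt.snd (RingHom.congr_fun (pointOf_injective sq hc _ _ h1) r)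
  · obtain ⟨γ', hγ', hψ⟩ := exists_point_tangent s hEc hEf Ku g hg hQ ψ
    obtain ⟨a, ha, hfa, rfl⟩ := exists_pointOf sq hc he hez hec γ' hγ'
    obtain ⟨D, rfl⟩ := exists_derivation a ha hfa
    exact ⟨D, hu D hψ⟩

end Groth.Agent.QuotInf

end
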