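import Groth.Agent.QuotInf.Lift
import Groth.Agent.QC.Coherent

/-!
The extension on the closed fibre whose retractions are the lifts of a flat quotient.
-/

set_option autoImplicit false
set_option linter.unusedSectionVars false
set_option linter.style.haveILetI false
set_option backward.isDefEq.respectTransparency false
set_option backward.isDefEq.respectTransparency.types false
set_option maxHeartbeats 1000000

universe u

open CategoryTheory CategoryTheory.Limits AlgebraicGeometry TopologicalSpace Opposite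
open Groth.Agent.KFlat (kap pushStalk)
open Groth.Agent.QuotProj (Quo)
open IsLocalRing (maximalIdeal)

noncomputable section

namespace Groth.Agent.QuotInf

variable {X S : Scheme.{u}} {f : X ⟶ S} {E : X.Modules}
variable {B A κ : Type u} [CommRing B] [IsLocalRing B] [CommRing A] [CommRing κ]
variable {φ : B →+* A} {χ : B →+* κ} {t : B}
variable {b : Spec (CommRingCat.of B) ⟶ S} {a : Spec (CommRingCat.of A) ⟶ S}
  {s : Spec (CommRingCat.of κ) ⟶ S}

/-- The data of a deformation problem. -/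
structure Prob (φ : B →+* A) (χ : B →+* κ) (t : B) (g : Over.mk a ⟶ Over.mk b) (g₁ : Over.mk s ⟶ Over.mk b)
    (Q : Quo f E (Over.mk a)) (K₀ : Subobject (FGA.ET f E (Over.mk s))) : Prop where
  ext1 : Ext1Data φ χ t
  hg : g.left = Spec.map (CommRingCat.ofHom φ)
  hg₁ : g₁.left = Spec.map (CommRingCat.ofHom χ)
  flat : FlatData b Q
  rel : ((pushQ g hg ext1.surjA ext1.nilA Q).pull g₁).Rel (Quo.ofSub K₀)

variable {g : Over.mk a ⟶ Over.mk b} {g₁ : Over.mk s ⟶ Over.mk b} {Q : Quo f E (Over.mk a)}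
  {K₀ : Subobject (FGA.ET f E (Over.mk s))} (P : Prob φ χ t g g₁ Q K₀)

/-- The kernel of the pushed quotient. -/
abbrev PK (g : Over.mk a ⟶ Over.mk b) (Q : Quo f E (Over.mk a)) : (PicF.XT f (Over.mk b)).Modules :=
  kernel (pushMap g Q)

/-- The middle term of the extension. -/
abbrev GK (g : Over.mk a ⟶ Over.mk b) (g₁ : Over.mk s ⟶ Over.mk b) (Q : Quo f E (Over.mk a)) :
    (PicF.XT f (Over.mk s)).Modules :=
  (Scheme.Modules.pullback (PicF.XTmap f g₁)).obj (PK g Q)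

/-- The inclusion of the kernel on a stalk. -/
abbrev iota (g : Over.mk a ⟶ Over.mk b) (Q : Quo f E (Over.mk a)) (y : ↑(PicF.XT f (Over.mk b))) :
    (stB (pr f b) y).obj (PK g Q) →ₗ[B] (stB (pr f b) y).obj (FGA.ET f E (Over.mk b)) :=
  ((stB (pr f b) y).map (kernel.ι (pushMap g Q))).hom

theorem range_iota (y : ↑(PicF.XT f (Over.mk b))) : LinearMap.range (iota g Q y) = kerπ g Q y := by
  ext v
  exact (stB_kernel_iff (pr f b) y (pushMap g Q) v).symm

theorem iota_injective (y : ↑(PicF.XT f (Over.mk b))) : Function.Injective (iota g Q y) :=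
  stB_injective (pr f b) y _

theorem mem_smul_iff (y : ↑(PicF.XT f (Over.mk b))) (p : (stB (pr f b) y).obj (PK g Q)) :
    iota g Q y p ∈ maximalIdeal B • kerπ g Q y ↔ p ∈ maximalIdeal B • (⊤ : Submodule B _) := by
  rw [← range_iota, ← Submodule.map_top, ← Submodule.map_smul'']
  exact ⟨fun ⟨q, hq, he⟩ => iota_injective y he ▸ hq, Submodule.mem_map_of_mem⟩

include P

/-- Multiplication by `t` into the kernel. -/
def tau : FGA.ET f E (Over.mk b) ⟶ PK g Q :=
  kernel.lift (pushMap g Q) (scB (pr f b) t (FGA.ET f E (Over.mk b))) (scB_comp_pushMap P.ext1 g P.hg Q P.flat)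

theorem tau_ι : tau P ≫ kernel.ι (pushMap g Q) = scB (pr f b) t (FGA.ET f E (Over.mk b)) := kernel.lift_ι _ _ _

theorem iota_tau (y : ↑(PicF.XT f (Over.mk b))) (v : (stB (pr f b) y).obj (FGA.ET f E (Over.mk b))) :
    iota g Q y (((stB (pr f b) y).map (tau P)).hom v) = t • v := by
  rw [← stB_comp, tau_ι, stB_scB]

theorem tau_mem_iff (y : ↑(PicF.XT f (Over.mk b))) (v : (stB (pr f b) y).obj (FGA.ET f E (Over.mk b))) :
    ((stB (pr f b) y).map (tau P)).hom v ∈ maximalIdeal B • (⊤ : Submodule B _) ↔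
      v ∈ kerπ g Q y ⊔ maximalIdeal B • (⊤ : Submodule B _) := by
  rw [← mem_smul_iff, iota_tau]
  refine ⟨alg_ii P.ext1 g P.hg Q P.flat, fun h => ?_⟩
  obtain ⟨p, hp, m, hm, rfl⟩ := Submodule.mem_sup.1 h
  clear h
  have h0 : t • m = 0 := by
    induction hm using Submodule.smul_induction_on' with
    | smul r hr q _ => rw [smul_smul, mul_comm, P.ext1.kill r hr, zero_smul]
    | add u _ u' _ hu hu' => rw [smul_add, hu, hu', add_zero]
  rw [smul_add, h0, add_zero]
  exact Submodule.smul_mem_smul P.ext1.mem hp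

theorem kap_PK_eq_zero_iff (w : ↑(PicF.XT f (Over.mk s)))
    (p : (stB (pr f b) ((PicF.XTmap f g₁).base w)).obj (PK g Q)) :
    kap (PicF.XTmap f g₁) w (PK g Q) p = 0 ↔ p ∈ maximalIdeal B • (⊤ : Submodule B _) := by
  rw [kap_eq_zero_iff (pr f b) (isPullback_bc g₁ P.hg₁) P.ext1.surjK w _ p, P.ext1.kerK]

theorem kernel_q₀_comp :
    kernel.ι (q₀ g₁ K₀) ≫ (Scheme.Modules.pullback (PicF.XTmap f g₁)).map (tau P) = 0 := by
  haveI := isClosedImmersion_bc (pr f b) (isPullback_bc (f := f) g₁ P.hg₁) P.ext1.surjK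
  refine hom_ext_stB (pr f s) fun w x => ?_
  rw [stB_comp, Functor.map_zero]
  obtain ⟨v, hv⟩ := GrothSS.kap_surjective (PicF.XTmap f g₁) w _ (((stB (pr f s) w).map (kernel.ι (q₀ g₁ K₀))).hom x)
  have h0 : ((stB (pr f s) w).map (q₀ g₁ K₀)).hom (kap (PicF.XTmap f g₁) w _ v) = 0 :=
    (congrArg _ hv).trans ((stB_kernel_iff (pr f s) w _ _).2 ⟨x, rfl⟩)
  rw [q₀_kap_eq_zero_iff P.ext1 g P.hg g₁ P.hg₁ Q K₀ P.rel, ← tau_mem_iff P, ← kap_PK_eq_zero_iff P w] at h0
  exact ((congrArg _ hv.symm).trans (CompInt.kap_map (PicF.XTmap f g₁) w (tau P) v)).trans h0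

/-- The closed-fibre quotient inside the middle term. -/
def sigma : cokernel K₀.arrow ⟶ GK g g₁ Q :=
  Abelian.epiDesc (q₀ g₁ K₀) _ (kernel_q₀_comp P)

theorem q₀_sigma : q₀ g₁ K₀ ≫ sigma P = (Scheme.Modules.pullback (PicF.XTmap f g₁)).map (tau P) :=
  Abelian.comp_epiDesc _ _ _

theorem sigma_q₀_kap (w : ↑(PicF.XT f (Over.mk s)))
    (v : (stB (pr f b) ((PicF.XTmap f g₁).base w)).obj (FGA.ET f E (Over.mk b))) :
    ((stB (pr f s) w).map (sigma P)).hom (((stB (pr f s) w).map (q₀ g₁ K₀)).hom (kap (PicF.XTmap f g₁) w _ v)) =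
      kap (PicF.XTmap f g₁) w (PK g Q) (((stB (pr f b) _).map (tau P)).hom v) := by
  rw [← stB_comp, q₀_sigma]
  exact CompInt.kap_map (PicF.XTmap f g₁) w (tau P) v

theorem rhoHom_comp :
    ((Scheme.Modules.pullback (PicF.XTmap f g₁)).map (kernel.ι (pushMap g Q)) ≫ (FGA.ETiso f E g₁).hom) ≫
      cokernel.π K₀.arrow = 0 := by
  obtain ⟨e, -, he⟩ := exists_q₀_eq P.ext1 g P.hg g₁ Q K₀ P.rel
  rw [Category.assoc]
  change _ ≫ q₀ g₁ K₀ = 0
  rw [he, ← Category.assoc, ← Functor.map_comp, kernel.condition, Functor.map_zero, zero_comp]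

/-- The middle term onto the submodule on the closed fibre. -/
def rho' : GK g g₁ Q ⟶ Subobject.underlying.obj K₀ :=
  Abelian.monoLift K₀.arrow _ (rhoHom_comp P)

theorem rho'_arrow : rho' P ≫ K₀.arrow =
    (Scheme.Modules.pullback (PicF.XTmap f g₁)).map (kernel.ι (pushMap g Q)) ≫ (FGA.ETiso f E g₁).hom :=
  Abelian.monoLift_comp _ _ _

theorem arrow_rho'_kap (w : ↑(PicF.XT f (Over.mk s)))
    (p : (stB (pr f b) ((PicF.XTmap f g₁).base w)).obj (PK g Q)) :
    ((stB (pr f s) w).map K₀.arrow).hom (((stB (pr f s) w).map (rho' P)).hom (kap (PicF.XTmap f g₁) w _ p)) =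
      ((stB (pr f s) w).map (FGA.ETiso f E g₁).hom).hom
        (kap (PicF.XTmap f g₁) w (FGA.ET f E (Over.mk b)) (iota g Q _ p)) := by
  rw [← stB_comp, rho'_arrow, stB_comp]
  exact congrArg _ (CompInt.kap_map (PicF.XTmap f g₁) w (kernel.ι (pushMap g Q)) p)

theorem sigma_rho' : sigma P ≫ rho' P = 0 := by
  haveI := isClosedImmersion_bc (pr f b) (isPullback_bc (f := f) g₁ P.hg₁) P.ext1.surjK
  refine hom_ext_stB (pr f s) fun w x => ?_
  rw [stB_comp, Functor.map_zero]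
  obtain ⟨u, rfl⟩ := stB_surjective (pr f s) w (q₀ g₁ K₀) x
  obtain ⟨v, rfl⟩ := GrothSS.kap_surjective (PicF.XTmap f g₁) w _ u
  refine stB_injective (pr f s) w K₀.arrow ?_
  rw [sigma_q₀_kap, arrow_rho'_kap]
  have h0 : kap (PicF.XTmap f g₁) w (FGA.ET f E (Over.mk b)) (iota g Q _ (((stB (pr f b) _).map (tau P)).hom v)) = 0 := by
    rw [iota_tau, kap_eq_zero_iff (pr f b) (isPullback_bc g₁ P.hg₁) P.ext1.surjK w, P.ext1.kerK]
    exact Submodule.smul_mem_smul P.ext1.mem trivial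
  exact ((congrArg _ h0).trans (map_zero _)).trans (map_zero _).symm

theorem shortExact : (ShortComplex.mk (sigma P) (rho' P) (sigma_rho' P)).ShortExact := by
  haveI := isClosedImmersion_bc (pr f b) (isPullback_bc (f := f) g₁ P.hg₁) P.ext1.surjK
  haveI : Mono (sigma P) := mono_of_stB (pr f s) _ fun w => (injective_iff_map_eq_zero _).2 fun x hx => by
    obtain ⟨u, rfl⟩ := stB_surjective (pr f s) w (q₀ g₁ K₀) x
    obtain ⟨v, rfl⟩ := GrothSS.kap_surjective (PicF.XTmap f g₁) w _ u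
    rw [sigma_q₀_kap] at hx
    rw [q₀_kap_eq_zero_iff P.ext1 g P.hg g₁ P.hg₁ Q K₀ P.rel, ← tau_mem_iff P, ← kap_PK_eq_zero_iff P w]
    exact hx
  haveI : Epi (rho' P) := epi_of_stB (pr f s) _ fun w k => by
    obtain ⟨u, hu⟩ := stB_surjective (pr f s) w (FGA.ETiso f E g₁).hom (((stB (pr f s) w).map K₀.arrow).hom k)
    obtain ⟨v, rfl⟩ := GrothSS.kap_surjective (PicF.XTmap f g₁) w _ u
    have h0 : ((stB (pr f s) w).map (q₀ g₁ K₀)).hom (kap (PicF.XTmap f g₁) w _ v) = 0 := by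
      rw [q₀, stB_comp, hu, ← stB_comp, cokernel.condition, Functor.map_zero]
      rfl
    rw [q₀_kap_eq_zero_iff P.ext1 g P.hg g₁ P.hg₁ Q K₀ P.rel] at h0
    obtain ⟨p, hp, m, hm, rfl⟩ := Submodule.mem_sup.1 h0
    rw [← range_iota] at hp
    obtain ⟨p, rfl⟩ := hp
    refine ⟨kap (PicF.XTmap f g₁) w (PK g Q) p, stB_injective (pr f s) w K₀.arrow ?_⟩
    rw [arrow_rho'_kap, ← hu]
    refine congrArg _ ?_
    have hm0 : kap (PicF.XTmap f g₁) w (FGA.ET f E (Over.mk b)) m = 0 := by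
      rw [kap_eq_zero_iff (pr f b) (isPullback_bc g₁ P.hg₁) P.ext1.surjK w, P.ext1.kerK]
      exact hm
    exact ((map_add (kap (PicF.XTmap f g₁) w _) _ m).trans ((congrArg (_ + ·) hm0).trans (add_zero _))).symm
  refine ShortComplex.ShortExact.mk' (exact_of_stB (pr f s) _ fun w x hx => ?_) inferInstance inferInstance
  obtain ⟨p, rfl⟩ : ∃ p : (stB (pr f b) ((PicF.XTmap f g₁).base w)).obj (PK g Q),
      kap (PicF.XTmap f g₁) w (PK g Q) p = x := GrothSS.kap_surjective (PicF.XTmap f g₁) w _ x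
  have h1 := arrow_rho'_kap P w p
  have h2 : ((stB (pr f s) w).map (FGA.ETiso f E g₁).hom).hom
      (kap (PicF.XTmap f g₁) w (FGA.ET f E (Over.mk b)) (iota g Q _ p)) = 0 :=
    h1.symm.trans ((congrArg _ hx).trans (map_zero _))
  have h3 := stB_injective (pr f s) w (FGA.ETiso f E g₁).hom (h2.trans (map_zero _).symm)
  rw [kap_eq_zero_iff (pr f b) (isPullback_bc g₁ P.hg₁) P.ext1.surjK w, P.ext1.kerK] at h3
  obtain ⟨e, he⟩ := alg_i P.ext1 g P.hg Q P.flat (by rw [← range_iota]; exact LinearMap.mem_range_self _ p) h3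
  refine ⟨((stB (pr f s) w).map (q₀ g₁ K₀)).hom (kap (PicF.XTmap f g₁) w _ e), ?_⟩
  show ((stB (pr f s) w).map (sigma P)).hom _ = _
  rw [sigma_q₀_kap]
  rw [← iota_tau P, ← map_sub, mem_smul_iff, ← kap_PK_eq_zero_iff P w] at he
  exact (sub_eq_zero.1 ((map_sub (kap (PicF.XTmap f g₁) w _) _ _).symm.trans he)).symm

/-- The map out of the kernel given by a retraction. -/
def retR (r : GK g g₁ Q ⟶ cokernel K₀.arrow) :
    PK g Q ⟶ (Scheme.Modules.pushforward (PicF.XTmap f g₁)).obj (cokernel K₀.arrow) :=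
  (Scheme.Modules.pullbackPushforwardAdjunction (PicF.XTmap f g₁)).homEquiv _ _ r

theorem tau_retR (r : GK g g₁ Q ⟶ cokernel K₀.arrow) :
    tau P ≫ retR r = nu g₁ K₀ ↔ sigma P ≫ r = 𝟙 _ := by
  rw [retR, nu, ← Adjunction.homEquiv_naturality_left, Equiv.apply_eq_iff_eq, ← q₀_sigma, Category.assoc]
  exact ⟨fun h => (cancel_epi (q₀ g₁ K₀)).1 (h.trans (Category.comp_id _).symm),
    fun h => (congrArg _ h).trans (Category.comp_id _)⟩

end Groth.Agent.QuotInf

end
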