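import Groth.Agent.QuotInf.Stalk
import Groth.Agent.QuotProj.Fam
import Groth.Agent.DefoLib.Basic
import Groth.Agent.FlatFunLib.ModCond

/-!
Pushed and pulled quotients along base changes by surjections of rings.
-/

set_option autoImplicit false
set_option linter.unusedSectionVars false
set_option linter.style.haveILetI false
set_option backward.isDefEq.respectTransparency false
set_option backward.isDefEq.respectTransparency.types false

universe u

open CategoryTheory CategoryTheory.Limits AlgebraicGeometry TopologicalSpace Opposite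
open Groth.Agent.KFlat (kap pushStalk)
open Groth.Agent.QuotProj (Quo)

noncomputable section

namespace Groth.Agent.QuotInf

section StalkLemmas

variable {B : Type u} [CommRing B] {Y : Scheme.{u}} (p : Y ⟶ Spec (CommRingCat.of B)) (y : Y)

instance stB_additive : (stB p y).Additive := inferInstance

instance stB_preservesFiniteLimits : PreservesFiniteLimits (stB p y) := comp_preservesFiniteLimits _ _

instance stB_preservesFiniteColimits : PreservesFiniteColimits (stB p y) := comp_preservesFiniteColimits _ _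

theorem stB_injective {M N : Y.Modules} (φ : M ⟶ N) [Mono φ] : Function.Injective ((stB p y).map φ).hom :=
  (ModuleCat.mono_iff_injective _).1 inferInstance

theorem stB_surjective {M N : Y.Modules} (φ : M ⟶ N) [Epi φ] : Function.Surjective ((stB p y).map φ).hom :=
  (ModuleCat.epi_iff_surjective _).1 inferInstance

theorem stB_comp {M N P : Y.Modules} (φ : M ⟶ N) (ψ : N ⟶ P) (v : (stB p y).obj M) :
    ((stB p y).map (φ ≫ ψ)).hom v = ((stB p y).map ψ).hom (((stB p y).map φ).hom v) := by
  rw [Functor.map_comp]; rfl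

theorem stB_kernel_iff {M N : Y.Modules} (φ : M ⟶ N) (v : (stB p y).obj M) :
    ((stB p y).map φ).hom v = 0 ↔ ∃ w, ((stB p y).map (kernel.ι φ)).hom w = v := by
  have h : ((ShortComplex.mk (kernel.ι φ) φ (kernel.condition φ)).map (stB p y)).Exact :=
    (ShortComplex.exact_kernel φ).map (stB p y)
  rw [ShortComplex.ShortExact.moduleCat_exact_iff_function_exact] at h
  exact h v

theorem hom_ext_stB {M N : Y.Modules} {φ ψ : M ⟶ N}
    (h : ∀ (y : Y) (v : (stB p y).obj M), ((stB p y).map φ).hom v = ((stB p y).map ψ).hom v) : φ = ψ := by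
  rw [← sub_eq_zero]
  refine FlatFunLib.eq_zero_of_stalks _ fun y => ?_
  rw [Functor.map_sub, sub_eq_zero]
  exact ModuleCat.hom_ext (LinearMap.ext fun v => h y v)

theorem mono_of_stB {M N : Y.Modules} (φ : M ⟶ N)
    (h : ∀ y : Y, Function.Injective ((stB p y).map φ).hom) : Mono φ :=
  FlatFunLib.mono_of_stalks φ fun y => (ModuleCat.mono_iff_injective _).2 (h y)

theorem epi_of_stB {M N : Y.Modules} (φ : M ⟶ N)
    (h : ∀ y : Y, Function.Surjective ((stB p y).map φ).hom) : Epi φ :=
  FlatFunLib.epi_of_stalks φ fun y => (ModuleCat.epi_iff_surjective _).2 (h y)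

theorem exact_of_stB (S : ShortComplex Y.Modules)
    (h : ∀ (y : Y) (v : (stB p y).obj S.X₂), ((stB p y).map S.g).hom v = 0 →
      ∃ w, ((stB p y).map S.f).hom w = v) : S.Exact := by
  rw [ShortComplex.exact_iff_isZero_homology]
  refine KFlat.isZero_of_stalks _ fun y => ?_
  have hex : (S.map (DerSch.stalkFunctor Y y)).Exact := by
    rw [ShortComplex.moduleCat_exact_iff]
    exact fun v hv => h y v hv
  exact ((ShortComplex.exact_iff_isZero_homology _).1 hex).of_iso (S.mapHomologyIso (DerSch.stalkFunctor Y y)).symm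

variable {A : Type u} [CommRing A] {Z : Scheme.{u}} {c : Z ⟶ Y} (q : Z ⟶ Spec (CommRingCat.of A))

theorem pushStalk_adjunct {M : Y.Modules} {N : Z.Modules} (π : M ⟶ (Scheme.Modules.pushforward c).obj N)
    (θ : (Scheme.Modules.pullback c).obj M ⟶ N)
    (hθ : (Scheme.Modules.pullback c).map π ≫ (Scheme.Modules.pullbackPushforwardAdjunction c).counit.app N = θ)
    (z : Z) (v : (stB p (c.base z)).obj M) :
    pushStalk c z N (((stB p (c.base z)).map π).hom v) = ((stB q z).map θ).hom (kap c z M v) := by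
  subst hθ
  refine Eq.trans ?_ (stB_comp q z _ _ _).symm
  exact congrArg ((DerSch.stalkFunctor Z z).map _).hom (CompInt.kap_map c z π v).symm

variable {φ : B →+* A}

theorem pushStalk_smulB (h : c ≫ p = q ≫ Spec.map (CommRingCat.ofHom φ)) (N : Z.Modules) (z : Z) (b : B)
    (v : (stB p (c.base z)).obj ((Scheme.Modules.pushforward c).obj N)) :
    (pushStalk c z N (b • v : (stB p (c.base z)).obj ((Scheme.Modules.pushforward c).obj N)) : (stB q z).obj N) =
      φ b • (show (stB q z).obj N from pushStalk c z N v) := by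
  refine (KFlat.pushStalk_smul c z N (rho p (c.base z) b) v).trans ?_
  exact congrArg (fun r => r • (pushStalk c z N v : (DerSch.stalkFunctor Z z).obj N)) (stalkMap_rho p h z b)

end StalkLemmas

theorem bc_cancel {W Y Z : Scheme.{u}} {π : Y ⟶ Z} {h : W ⟶ Y} {g : W ⟶ Z} (hg : h ≫ π = g) {M : Z.Modules}
    {Q : Y.Modules} (q : (Scheme.Modules.pullback π).obj M ⟶ Q) :
    ((Scheme.Modules.pullbackComp h π).app M ≪≫ (Scheme.Modules.pullbackCongr hg).app M).hom ≫ QuotProj.bc hg q =
      (Scheme.Modules.pullback h).map q := by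
  simp [QuotProj.bc, Grass.quotBC]

theorem ETiso_hom_comp_pull {X S : Scheme.{u}} {f : X ⟶ S} {E : X.Modules} {T T' : Over S} (g : T' ⟶ T)
    (Q : Quo f E T) :
    (FGA.ETiso f E g).hom ≫ (Q.pull g).q = (Scheme.Modules.pullback (PicF.XTmap f g)).map Q.q := by
  dsimp only [FGA.ETiso, Quo.pull]
  exact bc_cancel (FGA.XTmap_fst f g) Q.q

theorem adjunct_fac {C D : Type*} [Category C] [Category D] {L : C ⥤ D} {R : D ⥤ C} (adj : L ⊣ R) {M F' : C}
    {N F : D} (e : L.obj M ⟶ N) (q : M ⟶ F') (q' : N ⟶ L.obj F') (qF : N ⟶ F) (hq : e ≫ q' = L.map q)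
    (i : L.obj F' ⟶ F) (hi : q' ≫ i = qF) : q ≫ adj.homEquiv _ _ i = adj.homEquiv _ _ (e ≫ qF) := by
  rw [← Adjunction.homEquiv_naturality_left, ← hq, Category.assoc, hi]

theorem adjunct_counit {C D : Type*} [Category C] [Category D] {L : C ⥤ D} {R : D ⥤ C} (adj : L ⊣ R) {M : C}
    {N : D} (θ : L.obj M ⟶ N) : L.map (adj.homEquiv _ _ θ) ≫ adj.counit.app N = θ :=
  (adj.homEquiv_counit _ _ _).symm.trans (Equiv.symm_apply_apply _ _)

section Push

variable {X S : Scheme.{u}} {f : X ⟶ S} {E : X.Modules}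
variable {B A : Type u} [CommRing B] [CommRing A] {φ : B →+* A}
variable {b : Spec (CommRingCat.of B) ⟶ S} {a : Spec (CommRingCat.of A) ⟶ S}
variable (g : Over.mk a ⟶ Over.mk b)

/-- The projection to the spectrum of the base ring. -/
abbrev pr (f : X ⟶ S) {B : Type u} [CommRing B] (b : Spec (CommRingCat.of B) ⟶ S) :
    PicF.XT f (Over.mk b) ⟶ Spec (CommRingCat.of B) := PicF.XTproj f (Over.mk b)

theorem isPullback_bc (hg : g.left = Spec.map (CommRingCat.ofHom φ)) :
    IsPullback (PicF.XTmap f g) (pr f a) (pr f b) (Spec.map (CommRingCat.ofHom φ)) :=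
  hg ▸ PicFam.isPullback_XTmap f g

/-- The adjunct of a quotient on the subscheme. -/
def pushMap (Q : Quo f E (Over.mk a)) :
    FGA.ET f E (Over.mk b) ⟶ (Scheme.Modules.pushforward (PicF.XTmap f g)).obj Q.F :=
  (Scheme.Modules.pullbackPushforwardAdjunction (PicF.XTmap f g)).homEquiv _ _ ((FGA.ETiso f E g).hom ≫ Q.q)

theorem pullback_map_pushMap (Q : Quo f E (Over.mk a)) :
    (Scheme.Modules.pullback (PicF.XTmap f g)).map (pushMap g Q) ≫
      (Scheme.Modules.pullbackPushforwardAdjunction (PicF.XTmap f g)).counit.app Q.F =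
        (FGA.ETiso f E g).hom ≫ Q.q :=
  ((Scheme.Modules.pullbackPushforwardAdjunction (PicF.XTmap f g)).homEquiv_counit _ _ _).symm.trans
    (Equiv.symm_apply_apply _ _)

variable (hg : g.left = Spec.map (CommRingCat.ofHom φ)) (hφ : Function.Surjective φ)
include hg hφ

theorem pushStalk_pushMap (Q : Quo f E (Over.mk a)) (z : ↑(PicF.XT f (Over.mk a)))
    (v : (stB (pr f b) ((PicF.XTmap f g).base z)).obj (FGA.ET f E (Over.mk b))) :
    pushStalk (PicF.XTmap f g) z Q.F (((stB (pr f b) _).map (pushMap g Q)).hom v) =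
      ((stB (pr f a) z).map ((FGA.ETiso f E g).hom ≫ Q.q)).hom (kap (PicF.XTmap f g) z _ v) :=
  pushStalk_adjunct (pr f b) (pr f a) _ _ (pullback_map_pushMap g Q) z v

theorem epi_pushMap (hnil : ∀ x ∈ RingHom.ker φ, IsNilpotent x) (Q : Quo f E (Over.mk a)) :
    Epi (pushMap g Q) := by
  haveI := isClosedImmersion_bc (pr f b) (isPullback_bc g hg) hφ
  refine epi_of_stB (pr f b) _ fun y w => ?_
  obtain ⟨z, rfl⟩ := surjective_bc (pr f b) (isPullback_bc (f := f) g hg) hφ hnil y
  obtain ⟨x, hx⟩ := stB_surjective (pr f a) z ((FGA.ETiso f E g).hom ≫ Q.q) (pushStalk (PicF.XTmap f g) z Q.F w)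
  obtain ⟨v, rfl⟩ := GrothSS.kap_surjective (PicF.XTmap f g) z _ x
  exact ⟨v, (KFlat.pushStalk_bijective (PicF.XTmap f g) z Q.F).1 ((pushStalk_pushMap g hg hφ Q z v).trans hx)⟩

/-- The quotient of the base change given by a quotient on the subscheme. -/
def pushQ (hnil : ∀ x ∈ RingHom.ker φ, IsNilpotent x) (Q : Quo f E (Over.mk a)) : Quo f E (Over.mk b) :=
  ⟨_, pushMap g Q, epi_pushMap g hg hφ hnil Q⟩

/-- A map of a quotient to a pushed quotient, injective modulo the kernel, identifies the inverse image. -/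
theorem rel_pull_of_adjunct (Q : Quo f E (Over.mk a)) (Q' : Quo f E (Over.mk b))
    (v : Q'.F ⟶ (Scheme.Modules.pushforward (PicF.XTmap f g)).obj Q.F) (hv : Q'.q ≫ v = pushMap g Q)
    (hker : ∀ (y : ↑(PicF.XT f (Over.mk b))) (w : (stB (pr f b) y).obj Q'.F), ((stB (pr f b) y).map v).hom w = 0 →
      w ∈ RingHom.ker φ • (⊤ : Submodule B ((stB (pr f b) y).obj Q'.F))) :
    (Q'.pull g).Rel Q := by
  haveI := isClosedImmersion_bc (pr f b) (isPullback_bc g hg) hφ
  let c := PicF.XTmap f g
  let v' : (Scheme.Modules.pullback c).obj Q'.F ⟶ Q.F :=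
    (Scheme.Modules.pullback c).map v ≫ (Scheme.Modules.pullbackPushforwardAdjunction c).counit.app Q.F
  have hq : (Q'.pull g).q ≫ v' = Q.q := by
    rw [← cancel_epi (FGA.ETiso f E g).hom, ← Category.assoc, ETiso_hom_comp_pull, ← Category.assoc,
      ← Functor.map_comp, hv]
    exact pullback_map_pushMap g Q
  haveI : Epi v' := epi_of_epi_fac hq
  haveI : Mono v' := mono_of_stB (pr f a) _ fun z => by
    refine (injective_iff_map_eq_zero _).2 fun x hx => ?_
    obtain ⟨w, rfl⟩ := GrothSS.kap_surjective c z _ x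
    have h1 := pushStalk_adjunct (pr f b) (pr f a) v v' rfl z w
    have h2 := (KFlat.pushStalk_bijective c z Q.F).1 ((h1.trans hx).trans (map_zero _).symm)
    exact (kap_eq_zero_iff (pr f b) (isPullback_bc g hg) hφ z _ w).2 (hker _ w h2)
  haveI : IsIso v' := isIso_of_mono_of_epi v'
  exact ⟨asIso v', hq⟩

/-- The kernel of the adjunct of an isomorphism. -/
theorem adjunct_stalk_ker (hnil : ∀ x ∈ RingHom.ker φ, IsNilpotent x) {M : (PicF.XT f (Over.mk b)).Modules}
    {N : (PicF.XT f (Over.mk a)).Modules} (i : (Scheme.Modules.pullback (PicF.XTmap f g)).obj M ⟶ N) [Mono i]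
    (y : ↑(PicF.XT f (Over.mk b))) (w : (stB (pr f b) y).obj M) :
    ((stB (pr f b) y).map ((Scheme.Modules.pullbackPushforwardAdjunction (PicF.XTmap f g)).homEquiv _ _ i)).hom w = 0 ↔
      w ∈ RingHom.ker φ • (⊤ : Submodule B ((stB (pr f b) y).obj M)) := by
  haveI := isClosedImmersion_bc (pr f b) (isPullback_bc g hg) hφ
  obtain ⟨z, rfl⟩ := surjective_bc (pr f b) (isPullback_bc (f := f) g hg) hφ hnil y
  rw [← kap_eq_zero_iff (pr f b) (isPullback_bc g hg) hφ z _ w]
  have h1 := pushStalk_adjunct (pr f b) (pr f a) _ i (adjunct_counit _ i) z w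
  constructor
  · intro h0
    exact stB_injective (pr f a) z i ((h1.symm.trans ((congrArg _ h0).trans (map_zero _))).trans (map_zero _).symm)
  · intro h0
    exact (KFlat.pushStalk_bijective (PicF.XTmap f g) z N).1
      ((h1.trans ((congrArg _ h0).trans (map_zero _))).trans (map_zero _).symm)

/-- An isomorphism with the inverse image gives the map to the pushed quotient. -/
theorem exists_adjunct_of_rel (hnil : ∀ x ∈ RingHom.ker φ, IsNilpotent x) {Q : Quo f E (Over.mk a)}
    {Q' : Quo f E (Over.mk b)} (h : (Q'.pull g).Rel Q) :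
    ∃ v : Q'.F ⟶ (Scheme.Modules.pushforward (PicF.XTmap f g)).obj Q.F, Q'.q ≫ v = pushMap g Q ∧
      ∀ (y : ↑(PicF.XT f (Over.mk b))) (w : (stB (pr f b) y).obj Q'.F),
        ((stB (pr f b) y).map v).hom w = 0 ↔
          w ∈ RingHom.ker φ • (⊤ : Submodule B ((stB (pr f b) y).obj Q'.F)) := by
  obtain ⟨i, hi⟩ := h
  exact ⟨_, adjunct_fac _ (FGA.ETiso f E g).hom Q'.q (Q'.pull g).q Q.q (ETiso_hom_comp_pull g Q') i.hom hi,
    fun y w => adjunct_stalk_ker g hg hφ hnil i.hom y w⟩

end Push

end Groth.Agent.QuotInf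

end
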