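import Groth.Agent.GrothSS.ChangeRings
import Groth.Agent.CompInt.Conormal
import Groth.Agent.DQCoh.RelTor
import Groth.Agent.DQCoh.BCStalk
import Groth.Agent.PicBdd.Resolve
import Mathlib.RingTheory.Flat.Localization

/-!
Stalks over an affine base and stalks of inverse images along base changes by surjections of rings.
-/

set_option autoImplicit false
set_option linter.unusedSectionVars false
set_option linter.style.haveILetI false
set_option backward.isDefEq.respectTransparency false
set_option backward.isDefEq.respectTransparency.types false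

universe u

open CategoryTheory CategoryTheory.Limits AlgebraicGeometry TopologicalSpace Opposite TensorProduct
open Groth.Agent.KFlat (kap pushStalk PStalk exists_pgerm pgerm pstMap_germ pgerm_smul)

noncomputable section

namespace Groth.Agent.QuotInf

variable {B : Type u} [CommRing B] {Y : Scheme.{u}} (p : Y ⟶ Spec (CommRingCat.of B))

/-- The action of the base on a local ring. -/
def rho (y : Y) : B →+* Y.presheaf.stalk y :=
  (Y.presheaf.germ ⊤ y trivial).hom.comp (Coh.toGlobal p)

theorem specMap_rho (y : Y) : Spec.map (CommRingCat.ofHom (rho p y)) = Y.fromSpecStalk y ≫ p := by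
  have h : p = Y.toSpecΓ ≫ Spec.map p.appTop ≫ Spec.map (Scheme.ΓSpecIso (CommRingCat.of B)).inv := by
    rw [← Category.assoc, ← Scheme.toSpecΓ_naturality, Category.assoc, ← SpecMap_ΓSpecIso_hom, ← Spec.map_comp,
      Iso.inv_hom_id, Spec.map_id, Category.comp_id]
  conv_rhs => rw [h]
  rw [← Category.assoc, Scheme.fromSpecStalk_toSpecΓ, ← Spec.map_comp, ← Spec.map_comp]
  rfl

/-- Compatibility with a square over a map of base rings. -/
theorem stalkMap_rho {A : Type u} [CommRing A] {Z : Scheme.{u}} {c : Z ⟶ Y} {q : Z ⟶ Spec (CommRingCat.of A)}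
    {φ : B →+* A} (h : c ≫ p = q ≫ Spec.map (CommRingCat.ofHom φ)) (z : Z) (b : B) :
    (c.stalkMap z).hom (rho p (c.base z) b) = rho q z (φ b) := by
  have h1 : CommRingCat.ofHom (rho p (c.base z)) ≫ c.stalkMap z = CommRingCat.ofHom φ ≫ CommRingCat.ofHom (rho q z) := by
    apply Spec.map_injective
    rw [Spec.map_comp, Spec.map_comp, specMap_rho, specMap_rho, ← Category.assoc,
      Scheme.SpecMap_stalkMap_fromSpecStalk, Category.assoc, Category.assoc, h]
  exact congr(($h1).hom b)

/-- Stalks as modules over the base. -/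
abbrev stB (y : Y) : Y.Modules ⥤ ModuleCat.{u} B :=
  DerSch.stalkFunctor Y y ⋙ ModuleCat.restrictScalars.{u} (rho p y)

/-- Multiplication by a scalar of the base. -/
def scB (b : B) (M : Y.Modules) : M ⟶ M := PicBdd.scal (show Γ(Y, ⊤) from Coh.toGlobal p b) M

theorem scB_comp {M N : Y.Modules} (b : B) (φ : M ⟶ N) : scB p b M ≫ φ = φ ≫ scB p b N := PicBdd.scal_comp _ φ

theorem stB_scB (b : B) (M : Y.Modules) (y : Y) (v : (stB p y).obj M) :
    ((stB p y).map (scB p b M)).hom v = b • v := by
  obtain ⟨U, hU, s, rfl⟩ := exists_pgerm (DCoh.toP.obj M) y v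
  show _ = rho p y b • pgerm (DCoh.toP.obj M) y U hU s
  refine (pstMap_germ (DCoh.toP.map (scB p b M)) y hU s).trans ?_
  rw [rho, RingHom.comp_apply, ← TopCat.Presheaf.germ_res_apply Y.presheaf (homOfLE (le_top : U ≤ ⊤)) y hU]
  exact pgerm_smul (DCoh.toP.obj M) y hU _ _

/-- Flatness at a point over a local base with nilpotent maximal ideal is flatness over the base ring. -/
theorem flat_stB_iff (M : Y.Modules) (y : Y) :
    FlatMod.IsFlatOverAt p M y ↔ Module.Flat B ((stB p y).obj M) := by
  rw [DQCoh.isFlatOverAt_iff]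
  let R := (Spec (CommRingCat.of B)).presheaf.stalk (p.base y)
  letI alg : Algebra B R := (StructureSheaf.toStalk B (p.base y)).hom.toAlgebra
  haveI : IsLocalization.AtPrime R (p.base y).asIdeal := StructureSheaf.IsLocalization.to_stalk B (p.base y)
  have hrho : rho p y = (p.stalkMap y).hom.comp (algebraMap B R) := by
    have h1 : CommRingCat.ofHom (rho p y) = CommRingCat.ofHom (algebraMap B R) ≫ p.stalkMap y := by
      apply Spec.map_injective
      rw [Spec.map_comp, specMap_rho, ← Scheme.SpecMap_stalkMap_fromSpecStalk]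
      congr 1
      exact (Spec.fromSpecStalk_eq (CommRingCat.of B) (p.base y))
    exact congrArg (fun f => f.hom) h1
  let M' := (DQCoh.stA p y).obj M
  letI : Module B M' := Module.compHom M' (algebraMap B R)
  haveI : IsScalarTower B R M' := IsScalarTower.of_algebraMap_smul fun _ _ => rfl
  let e : M' ≃ₗ[B] (stB p y).obj M :=
    { toFun := fun v => v, invFun := fun v => v, map_add' := fun _ _ => rfl
      map_smul' := fun b v => by
        exact congrArg (fun r => r • (show (DerSch.stalkFunctor Y y).obj M from v)) (RingHom.congr_fun hrho b).symm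
      left_inv := fun _ => rfl, right_inv := fun _ => rfl }
  rw [Module.flat_iff_of_isLocalization R (p.base y).asIdeal.primeCompl (M := M')]
  exact ⟨fun h => Module.Flat.of_linearEquiv e.symm, fun h => Module.Flat.of_linearEquiv e⟩

section BaseChange

variable {A : Type u} [CommRing A] {Z : Scheme.{u}} {c : Z ⟶ Y} {q : Z ⟶ Spec (CommRingCat.of A)}
  {φ : B →+* A}

attribute [local instance] Algebra.TensorProduct.rightAlgebra

theorem ker_stalkMap_pullback (hφ : Function.Surjective φ) (z : ↑(pullback p (Spec.map (CommRingCat.ofHom φ))))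
    (s : Y.presheaf.stalk ((pullback.fst p (Spec.map (CommRingCat.ofHom φ))).base z))
    (hsz : ((pullback.fst p (Spec.map (CommRingCat.ofHom φ))).stalkMap z).hom s = 0) :
    s ∈ (RingHom.ker φ).map (rho p ((pullback.fst p (Spec.map (CommRingCat.ofHom φ))).base z)) := by
  let g := Spec.map (CommRingCat.ofHom φ)
  let y := (pullback.fst p g).base z
  let Rx := Y.presheaf.stalk y
  let C := (pullback p g).presheaf.stalk z
  let P := pullback p g
  letI : Algebra B Rx := (rho p y).toAlgebra
  letI : Algebra B A := φ.toAlgebra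
  letI : Algebra Rx C := ((pullback.fst p g).stalkMap z).hom.toAlgebra
  letI : Algebra A C := (rho (pullback.snd p g) z).toAlgebra
  letI : Algebra B C := (((pullback.fst p g).stalkMap z).hom.comp (rho p y)).toAlgebra
  haveI : IsScalarTower B Rx C := IsScalarTower.of_algebraMap_eq fun _ => rfl
  haveI : IsScalarTower B A C := IsScalarTower.of_algebraMap_eq fun b =>
    stalkMap_rho p (q := pullback.snd p g) pullback.condition z b
  haveI := DQCoh.BCStalk.flat_fromSpecStalk z
  have hflat : (DQCoh.BCAlg.cmpHom B Rx A C).Flat := by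
    refine DQCoh.BCStalk.flat_cmpHom_of_mono (X := Y) (S' := Spec (CommRingCat.of A)) p g (A := B) (Rx := Rx)
      (R' := A) (C := C) (Y.fromSpecStalk y) (𝟙 _) (P.fromSpecStalk z) ?_
      (Scheme.SpecMap_stalkMap_fromSpecStalk _) ?_
    · rw [← specMap_rho, Category.id_comp]
      exact pullback.condition
    · rw [Category.comp_id]
      exact specMap_rho (pullback.snd p g) z
  letI : Algebra (Rx ⊗[B] A) C := (DQCoh.BCAlg.cmpHom B Rx A C).toAlgebra
  haveI : Module.Flat (Rx ⊗[B] A) C := hflat
  have hsurj : Function.Surjective (algebraMap Rx (Rx ⊗[B] A)) := fun w => by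
    induction w using TensorProduct.induction_on with
    | zero => exact ⟨0, map_zero _⟩
    | tmul r a =>
      obtain ⟨b, rfl⟩ := hφ a
      refine ⟨b • r, ?_⟩
      rw [Algebra.TensorProduct.algebraMap_apply, Algebra.algebraMap_self, RingHom.id_apply, TensorProduct.smul_tmul,
        show (b • (1 : A)) = φ b from (Algebra.smul_def b (1 : A)).trans (mul_one _)]
    | add x y hx hy =>
      obtain ⟨a, rfl⟩ := hx
      obtain ⟨a', rfl⟩ := hy
      exact ⟨a + a', map_add _ _ _⟩
  have hcomp : ∀ r : Rx, DQCoh.BCAlg.cmpHom B Rx A C (algebraMap Rx (Rx ⊗[B] A) r) =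
      ((pullback.fst p g).stalkMap z).hom r := fun r => by
    rw [Algebra.TensorProduct.algebraMap_apply, DQCoh.BCAlg.cmpHom_tmul, map_one, mul_one]
    rfl
  haveI : Nontrivial (Rx ⊗[B] A) := (DQCoh.BCAlg.cmpHom B Rx A C).domain_nontrivial
  haveI : IsLocalRing (Rx ⊗[B] A) := .of_surjective' _ hsurj
  haveI : IsLocalHom (algebraMap (Rx ⊗[B] A) C) := ⟨fun w hw => by
    obtain ⟨r, rfl⟩ := hsurj w
    rw [RingHom.algebraMap_toAlgebra, hcomp] at hw
    exact (IsUnit.of_map ((pullback.fst p g).stalkMap z).hom r hw).map _⟩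
  haveI : Module.FaithfullyFlat (Rx ⊗[B] A) C := Module.FaithfullyFlat.of_flat_of_isLocalHom
  have h0 : algebraMap Rx (Rx ⊗[B] A) s = 0 := by
    refine (FaithfulSMul.algebraMap_injective (Rx ⊗[B] A) C) ?_
    rw [map_zero, RingHom.algebraMap_toAlgebra, hcomp]
    exact hsz
  let J := (RingHom.ker φ).map (rho p y)
  let γ : A →ₐ[B] Rx ⧸ J :=
    { RingHom.liftOfSurjective φ hφ ⟨(Ideal.Quotient.mk J).comp (rho p y), fun b hb =>
        Ideal.Quotient.eq_zero_iff_mem.2 (Ideal.mem_map_of_mem _ hb)⟩ with
      commutes' := fun b => RingHom.liftOfRightInverse_comp_apply φ _ _ _ b }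
  have h1 := congrArg (Algebra.TensorProduct.lift (Algebra.ofId Rx (Rx ⧸ J)) γ fun _ _ => Commute.all _ _) h0
  rw [map_zero, Algebra.TensorProduct.algebraMap_apply, Algebra.TensorProduct.lift_tmul, map_one, mul_one] at h1
  exact Ideal.Quotient.eq_zero_iff_mem.1 h1

theorem ker_stalkMap_iso (hφ : Function.Surjective φ)
    (e : Z ≅ pullback p (Spec.map (CommRingCat.ofHom φ))) (he : e.hom ≫ pullback.fst _ _ = c) (z : Z) :
    RingHom.ker (c.stalkMap z).hom ≤ (RingHom.ker φ).map (rho p (c.base z)) := by
  subst he
  intro s hs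
  refine ker_stalkMap_pullback p hφ (e.hom.base z) s ?_
  refine (ConcreteCategory.bijective_of_isIso (e.hom.stalkMap z)).1 ?_
  rw [map_zero]
  refine Eq.trans ?_ (RingHom.mem_ker.1 hs)
  rw [Scheme.Hom.stalkMap_comp]
  rfl

variable (sq : IsPullback c q p (Spec.map (CommRingCat.ofHom φ))) (hφ : Function.Surjective φ)
include sq hφ

theorem isClosedImmersion_bc : IsClosedImmersion c :=
  MorphismProperty.of_isPullback (P := @IsClosedImmersion) sq.flip (IsClosedImmersion.spec_of_surjective _ hφ)

theorem surjective_bc (hnil : ∀ b ∈ RingHom.ker φ, IsNilpotent b) : Function.Surjective c.base := by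
  haveI : Surjective (Spec.map (CommRingCat.ofHom φ)) := ⟨fun x => by
    have hx : x ∈ Set.range (PrimeSpectrum.comap φ) := by
      rw [range_comap_of_surjective _ φ hφ]
      intro b hb
      obtain ⟨n, hn⟩ := hnil b hb
      exact x.isPrime.mem_of_pow_mem n (hn ▸ x.asIdeal.zero_mem)
    obtain ⟨P, hP⟩ := hx
    exact ⟨P, hP⟩⟩
  exact (MorphismProperty.of_isPullback (P := @Surjective) sq.flip ‹_›).surj

/-- The kernel of the stalk map of the base change of a surjection of rings. -/
theorem ker_stalkMap_bc (z : Z) :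
    RingHom.ker (c.stalkMap z).hom = (RingHom.ker φ).map (rho p (c.base z)) := by
  refine le_antisymm ?_ ?_
  · exact ker_stalkMap_iso p hφ sq.isoPullback sq.isoPullback_hom_fst z
  · rw [Ideal.map_le_iff_le_comap]
    intro b hb
    rw [Ideal.mem_comap, RingHom.mem_ker, stalkMap_rho p sq.w z b, RingHom.mem_ker.1 hb, map_zero]

omit hφ in
theorem kap_smulB (z : Z) (M : Y.Modules) (b : B) (v : (stB p (c.base z)).obj M) :
    (kap c z M (b • v : (stB p (c.base z)).obj M) : (stB q z).obj ((Scheme.Modules.pullback c).obj M)) =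
      φ b • (show (stB q z).obj ((Scheme.Modules.pullback c).obj M) from kap c z M v) := by
  refine (KFlat.kap_smul c z M (rho p (c.base z) b) v).trans ?_
  exact congrArg (fun r => r • (kap c z M v : (DerSch.stalkFunctor Z z).obj ((Scheme.Modules.pullback c).obj M)))
    (stalkMap_rho p sq.w z b)

/-- The kernel of the map to the stalk of the inverse image. -/
theorem kap_eq_zero_iff (z : Z) (M : Y.Modules) (v : (stB p (c.base z)).obj M) :
    kap c z M v = 0 ↔ v ∈ RingHom.ker φ • (⊤ : Submodule B ((stB p (c.base z)).obj M)) := by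
  constructor
  · intro hv
    haveI := isClosedImmersion_bc p sq hφ
    let R := Y.presheaf.stalk (c.base z)
    let f := (c.stalkMap z).hom
    have hf : Function.Surjective f := c.stalkMap_surjective z
    let W := (DerSch.stalkFunctor Y (c.base z)).obj M
    let N : Submodule R W := RingHom.ker f • ⊤
    let e := RingHom.quotientKerEquivOfSurjective hf
    letI : Module (Z.presheaf.stalk z) (W ⧸ N) := Module.compHom (W ⧸ N) e.symm.toRingHom
    let P : ModuleCat.{u} (Z.presheaf.stalk z) := ModuleCat.of _ (W ⧸ N)
    let h : (DerSch.stalkFunctor Y (c.base z)).obj M ⟶ (ModuleCat.restrictScalars f).obj P :=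
      ModuleCat.ofHom (Y := (ModuleCat.restrictScalars f).obj P)
        { toFun := fun w => (N.mkQ w : W ⧸ N)
          map_add' := fun a b => map_add N.mkQ a b
          map_smul' := fun r a => by
            show N.mkQ (r • a) = e.symm (f r) • N.mkQ a
            rw [map_smul, show e.symm (f r) = Ideal.Quotient.mk _ r from e.injective (by rw [e.apply_symm_apply]; rfl)]
            rfl }
    obtain ⟨g, hg⟩ := KFlat.exists_pull_stalk_desc c z M h
    have h1 : N.mkQ (v : W) = 0 := (hg v).symm.trans ((congrArg g.hom hv).trans (map_zero g.hom))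
    have h2 : ∀ s ∈ RingHom.ker f, ∀ w : W, (show (stB p (c.base z)).obj M from s • w) ∈
        RingHom.ker φ • (⊤ : Submodule B ((stB p (c.base z)).obj M)) := by
      intro s hs
      rw [ker_stalkMap_bc p sq hφ, Ideal.map] at hs
      induction hs using Submodule.span_induction with
      | mem x hx =>
        obtain ⟨b, hb, rfl⟩ := hx
        exact fun w => Submodule.smul_mem_smul hb (trivial : (show (stB p (c.base z)).obj M from w) ∈ _)
      | zero => intro w; rw [zero_smul]; exact zero_mem _
      | add x y _ _ hx hy => intro w; rw [add_smul]; exact add_mem (hx w) (hy w)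
      | smul a x _ hx => intro w; rw [smul_eq_mul, mul_comm, mul_smul]; exact hx _
    have h3 := (Submodule.Quotient.mk_eq_zero N).1 h1
    refine Submodule.smul_induction_on (p := fun w : W => (show (stB p (c.base z)).obj M from w) ∈
      RingHom.ker φ • (⊤ : Submodule B ((stB p (c.base z)).obj M))) h3 (fun s hs w _ => h2 s hs w)
      (fun a b ha hb => add_mem ha hb)
  · intro hv
    induction hv using Submodule.smul_induction_on' with
    | smul b hb w _ =>
      refine (kap_smulB p sq z M b w).trans ?_
      rw [RingHom.mem_ker.1 hb, zero_smul]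
    | add x _ y _ hx hy => exact (map_add (kap c z M) x y).trans ((congrArg₂ (· + ·) hx hy).trans (add_zero _))

end BaseChange

end Groth.Agent.QuotInf

end
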