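import Groth.Agent.QuotInf.Trans
import Groth.Agent.QuotInf.Bij

/-!
The tangent of a first order lift of a quotient.
-/

set_option autoImplicit false
set_option linter.unusedSectionVars false
set_option linter.style.haveILetI false
set_option backward.isDefEq.respectTransparency false
set_option backward.isDefEq.respectTransparency.types false
set_option maxHeartbeats 1000000

universe u

open CategoryTheory CategoryTheory.Limits AlgebraicGeometry TopologicalSpace Opposite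
open Groth.Agent.KFlat (kap)
open Groth.Agent.QuotProj (Quo)
open IsLocalRing (maximalIdeal)

noncomputable section

namespace Groth.Agent.QuotInf

variable {X S : Scheme.{u}} {f : X ⟶ S} {E : X.Modules}
variable {B k : Type u} [CommRing B] [CommRing k]
variable {b : Spec (CommRingCat.of B) ⟶ S} {s : Spec (CommRingCat.of k) ⟶ S}

/-- The defining equation of multiplication by a scalar on a lift. -/
def IsScal (ret : Over.mk b ⟶ Over.mk s) (K₀ : Subobject (FGA.ET f E (Over.mk s))) (ε : B)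
    (Q : Quo f E (Over.mk b)) (w : (Scheme.Modules.pullback (PicF.XTmap f ret)).obj (cokernel K₀.arrow) ⟶ Q.F) :
    Prop :=
  (Scheme.Modules.pullback (PicF.XTmap f ret)).map (cokernel.π K₀.arrow) ≫ w = qmap ret Q ≫ scB (pr f b) ε Q.F

/-- The restriction of the quotient map to the extended submodule. -/
abbrev thetaQ (ret : Over.mk b ⟶ Over.mk s) (K₀ : Subobject (FGA.ET f E (Over.mk s)))
    (Q : Quo f E (Over.mk b)) : (Scheme.Modules.pullback (PicF.XTmap f ret)).obj (Subobject.underlying.obj K₀) ⟶ Q.F :=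
  (Scheme.Modules.pullback (PicF.XTmap f ret)).map K₀.arrow ≫ qmap ret Q

/-- The tangent of a lift in the direction of a scalar. -/
def Tan (ret : Over.mk b ⟶ Over.mk s) (K₀ : Subobject (FGA.ET f E (Over.mk s))) (ε : B)
    (Q : Quo f E (Over.mk b)) (φ : Subobject.underlying.obj K₀ ⟶ cokernel K₀.arrow) : Prop :=
  ∃ w, IsScal ret K₀ ε Q w ∧ thetaQ ret K₀ Q = (Scheme.Modules.pullback (PicF.XTmap f ret)).map φ ≫ w

theorem epi_pullback_cokernel (ret : Over.mk b ⟶ Over.mk s) (K₀ : Subobject (FGA.ET f E (Over.mk s))) :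
    Epi ((Scheme.Modules.pullback (PicF.XTmap f ret)).map (cokernel.π K₀.arrow)) :=
  Grass.epi_pullback_map _ _

theorem IsScal.eq {ret : Over.mk b ⟶ Over.mk s} {K₀ : Subobject (FGA.ET f E (Over.mk s))} {ε : B}
    {Q : Quo f E (Over.mk b)} {w w' : (Scheme.Modules.pullback (PicF.XTmap f ret)).obj (cokernel K₀.arrow) ⟶ Q.F}
    (h : IsScal ret K₀ ε Q w) (h' : IsScal ret K₀ ε Q w') : w = w' := by
  haveI := epi_pullback_cokernel ret K₀
  exact (cancel_epi _).1 (Eq.trans h h'.symm)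

theorem Tan.of_rel {ret : Over.mk b ⟶ Over.mk s} {K₀ : Subobject (FGA.ET f E (Over.mk s))} {ε : B}
    {Q Q' : Quo f E (Over.mk b)} {φ : Subobject.underlying.obj K₀ ⟶ cokernel K₀.arrow}
    (h : Tan ret K₀ ε Q φ) (r : Q.Rel Q') : Tan ret K₀ ε Q' φ := by
  obtain ⟨w, hw, hθ⟩ := h
  obtain ⟨i, hi⟩ := r
  have hq : qmap ret Q ≫ i.hom = qmap ret Q' := by rw [qmap, Category.assoc, hi]
  refine ⟨w ≫ i.hom, ?_, ?_⟩
  · rw [IsScal, ← Category.assoc, show _ ≫ w = _ from hw, Category.assoc, scB_comp, ← Category.assoc, hq]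
  · rw [← Category.assoc, ← hθ, Category.assoc, hq]

section Kill

variable [IsLocalRing B] {χ : B →+* k}

theorem stB_mem_of_pullback_eq_zero {T₁ T₂ : Scheme.{u}} {p₂ : T₂ ⟶ Spec (CommRingCat.of B)}
    {p₁ : T₁ ⟶ Spec (CommRingCat.of k)} {c : T₁ ⟶ T₂}
    (sq : IsPullback c p₁ p₂ (Spec.map (CommRingCat.ofHom χ))) (hχ : Function.Surjective χ)
    (hnil : ∀ x ∈ RingHom.ker χ, IsNilpotent x) {M N : T₂.Modules} (ψ : M ⟶ N)
    (h : (Scheme.Modules.pullback c).map ψ = 0) (y : T₂) (v : (stB p₂ y).obj M) :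
    ((stB p₂ y).map ψ).hom v ∈ RingHom.ker χ • (⊤ : Submodule B ((stB p₂ y).obj N)) := by
  obtain ⟨z, rfl⟩ := surjective_bc p₂ sq hχ hnil y
  rw [← kap_eq_zero_iff p₂ sq hχ z N]
  refine (CompInt.kap_map c z ψ v).symm.trans ?_
  rw [h, Functor.map_zero]
  rfl

end Kill

variable (g : Over.mk s ⟶ Over.mk b) (ret : Over.mk b ⟶ Over.mk s) (hr : g ≫ ret = 𝟙 _)
variable (K₀ : Subobject (FGA.ET f E (Over.mk s)))
include hr

theorem XTmap_g_ret : PicF.XTmap f g ≫ PicF.XTmap f ret = 𝟙 (PicF.XT f (Over.mk s)) := by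
  rw [← QuotProj.XTmap_comp, hr, QuotProj.XTmap_id]

/-- Restriction after extension is the identity. -/
def kapI (M : (PicF.XT f (Over.mk s)).Modules) :
    (Scheme.Modules.pullback (PicF.XTmap f g)).obj ((Scheme.Modules.pullback (PicF.XTmap f ret)).obj M) ≅ M :=
  (PI (show PicF.XTmap f g ≫ PicF.XTmap f ret = PicF.XTmap f (𝟙 (Over.mk s)) by
    rw [← QuotProj.XTmap_comp, hr])).app M ≪≫ (PIid QuotProj.XTmap_id).app M

theorem kapI_natural {M N : (PicF.XT f (Over.mk s)).Modules} (φ : M ⟶ N) :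
    (Scheme.Modules.pullback (PicF.XTmap f g)).map ((Scheme.Modules.pullback (PicF.XTmap f ret)).map φ) ≫
      (kapI g ret hr N).hom = (kapI g ret hr M).hom ≫ φ := by
  simp only [kapI, Iso.trans_hom, Iso.app_hom, Category.assoc]
  rw [← Category.assoc, PI_natural, Category.assoc]
  exact congrArg (_ ≫ ·) ((PIid QuotProj.XTmap_id).hom.naturality φ)

theorem map_ETiso_comp : (Scheme.Modules.pullback (PicF.XTmap f g)).map (FGA.ETiso f E ret).hom ≫
    (FGA.ETiso f E g).hom = (kapI g ret hr (FGA.ET f E (Over.mk s))).hom := by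
  rw [ETiso_comp g ret hr, ETiso_id]
  rfl

theorem pullback_thetaQ {Q : Quo f E (Over.mk b)} (hQ : (Q.pull g).Rel (Quo.ofSub K₀)) :
    (Scheme.Modules.pullback (PicF.XTmap f g)).map (thetaQ ret K₀ Q) = 0 := by
  obtain ⟨i, hi⟩ := hQ
  rw [← cancel_mono i.hom, zero_comp, thetaQ, qmap, Functor.map_comp, Functor.map_comp, Category.assoc, Category.assoc,
    ← ETiso_hom_comp_pull g Q, Category.assoc, hi, ← Category.assoc _ (FGA.ETiso f E g).hom, map_ETiso_comp g ret hr,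
    ← Category.assoc, kapI_natural g ret hr]
  rw [Category.assoc]
  exact (congrArg (_ ≫ ·) (cokernel.condition K₀.arrow)).trans comp_zero

section Exists

variable [IsLocalRing B] {χ : B →+* k} (hg : g.left = Spec.map (CommRingCat.ofHom χ))
  (hχ : Function.Surjective χ) (hker : RingHom.ker χ = maximalIdeal B) (hnil : IsNilpotent (maximalIdeal B))
include hg hχ hker hnil

theorem exists_isScal {Q : Quo f E (Over.mk b)} (hQ : (Q.pull g).Rel (Quo.ofSub K₀)) {ε : B}
    (hε : ∀ m ∈ maximalIdeal B, m * ε = 0) : ∃ w, IsScal ret K₀ ε Q w := by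
  have hnil' : ∀ x ∈ RingHom.ker χ, IsNilpotent x := fun x hx => by
    obtain ⟨n, hn⟩ := hnil
    have h1 : x ^ n ∈ maximalIdeal B ^ n := Ideal.pow_mem_pow (hker ▸ hx) n
    rw [hn] at h1
    exact ⟨n, h1⟩
  have h0 : (Scheme.Modules.pullback (PicF.XTmap f ret)).map K₀.arrow ≫ qmap ret Q ≫ scB (pr f b) ε Q.F = 0 := by
    refine hom_ext_stB (pr f b) fun y v => ?_
    rw [← Category.assoc, stB_comp, stB_scB, Functor.map_zero]
    show ε • _ = 0
    have hm := stB_mem_of_pullback_eq_zero (isPullback_bc g hg) hχ hnil' _ (pullback_thetaQ g ret hr K₀ hQ) y v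
    rw [hker] at hm
    generalize ((stB (pr f b) y).map (thetaQ ret K₀ Q)).hom v = x at hm ⊢
    induction hm using Submodule.smul_induction_on' with
    | smul c hc q _ => rw [smul_smul, mul_comm, hε c hc, zero_smul]
    | add x _ x' _ hx hx' => rw [smul_add, hx, hx', add_zero]
  haveI : PreservesColimitsOfSize.{0, 0} (Scheme.Modules.pullback (PicF.XTmap f ret)) :=
    (Scheme.Modules.pullbackPushforwardAdjunction (PicF.XTmap f ret)).leftAdjoint_preservesColimits
  haveI := (Scheme.Modules.pullbackPushforwardAdjunction (PicF.XTmap f ret)).left_adjoint_additive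
  obtain ⟨w, hw⟩ := CokernelCofork.IsColimit.desc'
    (CokernelCofork.mapIsColimit _ (cokernelIsCokernel K₀.arrow) (Scheme.Modules.pullback (PicF.XTmap f ret))) _ h0
  exact ⟨w, hw⟩

end Exists

section Small

variable [IsLocalRing B] {χ : B →+* k} {t : B}
variable (P : Prob χ χ t g g (Quo.ofSub K₀) K₀)
include P

theorem thetaP_comp : ((Scheme.Modules.pullback (PicF.XTmap f ret)).map K₀.arrow ≫ (FGA.ETiso f E ret).hom) ≫
    pushMap g (Quo.ofSub K₀) = 0 := by
  have h0 := pullback_thetaQ g ret hr K₀ (Q := pushQ g P.hg P.ext1.surjA P.ext1.nilA (Quo.ofSub K₀)) P.rel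
  apply ((Scheme.Modules.pullbackPushforwardAdjunction (PicF.XTmap f g)).homEquiv _ _).symm.injective
  rw [Adjunction.homEquiv_counit, Adjunction.homEquiv_counit, Category.assoc]
  show (Scheme.Modules.pullback (PicF.XTmap f g)).map (thetaQ ret K₀ (pushQ g P.hg P.ext1.surjA P.ext1.nilA (Quo.ofSub K₀))) ≫ _ = _
  rw [h0, zero_comp]
  haveI := (Scheme.Modules.pullbackPushforwardAdjunction (PicF.XTmap f g)).left_adjoint_additive
  rw [Functor.map_zero, zero_comp]

/-- The extended submodule inside the kernel. -/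
def thetaP : (Scheme.Modules.pullback (PicF.XTmap f ret)).obj (Subobject.underlying.obj K₀) ⟶
    PK g (Quo.ofSub K₀) :=
  kernel.lift _ _ (thetaP_comp g ret hr K₀ P)

/-- The section of the extension. -/
def secT : Subobject.underlying.obj K₀ ⟶ GK g g (Quo.ofSub K₀) :=
  (kapI g ret hr _).inv ≫ (Scheme.Modules.pullback (PicF.XTmap f g)).map (thetaP g ret hr K₀ P)

theorem secT_rho : secT g ret hr K₀ P ≫ rho' P = 𝟙 _ := by
  rw [← cancel_mono K₀.arrow, Category.assoc, rho'_arrow, Category.id_comp, secT, Category.assoc,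
    Iso.inv_comp_eq, ← Category.assoc, ← Functor.map_comp, thetaP, kernel.lift_ι, Functor.map_comp, Category.assoc,
    map_ETiso_comp g ret hr, kapI_natural]

theorem epi_retR {r : GK g g (Quo.ofSub K₀) ⟶ cokernel K₀.arrow} (h : sigma P ≫ r = 𝟙 _) : Epi (retR r) := by
  haveI : Epi (nu g K₀ (f := f) (E := E)) := epi_of_stB (pr f b) _ fun y =>
    (nu_stalk P.ext1 g P.hg g P.hg₁ _ K₀ P.rel y).1
  exact epi_of_epi_fac ((tau_retR P r).2 h)

theorem exists_u {r : GK g g (Quo.ofSub K₀) ⟶ cokernel K₀.arrow} (h : sigma P ≫ r = 𝟙 _) :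
    ∃ u : (Scheme.Modules.pushforward (PicF.XTmap f g)).obj (cokernel K₀.arrow) ⟶ (liftQ r).F,
      retR r ≫ u = kernel.ι (pushMap g (Quo.ofSub K₀)) ≫ (liftQ r).q ∧
      nu g K₀ ≫ u = scB (pr f b) t _ ≫ (liftQ r).q ∧ Mono u := by
  haveI := epi_retR g ret hr K₀ P h
  have w0 : kernel.ι (retR r) ≫ (kernel.ι (pushMap g (Quo.ofSub K₀)) ≫ (liftQ r).q) = 0 := by
    rw [← Category.assoc]
    exact cokernel.condition _
  have h1 : retR r ≫ Abelian.epiDesc (retR r) _ w0 = kernel.ι (pushMap g (Quo.ofSub K₀)) ≫ (liftQ r).q :=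
    Abelian.comp_epiDesc _ _ _
  have h2 : nu g K₀ ≫ Abelian.epiDesc (retR r) _ w0 = scB (pr f b) t _ ≫ (liftQ r).q := by
    rw [← (tau_retR P r).2 h, Category.assoc, h1, ← Category.assoc, tau_ι]
  refine ⟨_, h1, h2, mono_of_stB (pr f b) _ fun y => (injective_iff_map_eq_zero _).2 fun x hx => ?_⟩
  obtain ⟨e, rfl⟩ := (nu_stalk P.ext1 g P.hg g P.hg₁ _ K₀ P.rel y).1 x
  haveI := (liftQ_stalk P h y).1
  haveI := (liftQ r).epi
  rw [← stB_comp, h2, stB_comp, stB_scB, map_smul] at hx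
  refine ((nu_stalk P.ext1 g P.hg g P.hg₁ _ K₀ P.rel y).2 e).2 (alg_iv P.ext1 g P.hg _ P.flat
    ((stB (pr f b) y).map (liftQ r).q).hom (stB_surjective _ _ _) (fun e' he' => ?_) hx)
  obtain ⟨p, -, rfl⟩ := (q_liftQ_eq_zero_iff r y e').1 he'
  rw [← range_iota]
  exact LinearMap.mem_range_self _ p

/-- The isomorphism adjunct to the restriction. -/
def rhoF : (Scheme.Modules.pullback (PicF.XTmap f ret)).obj (cokernel K₀.arrow) ⟶
    (Scheme.Modules.pushforward (PicF.XTmap f g)).obj (cokernel K₀.arrow) :=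
  (Scheme.Modules.pullbackPushforwardAdjunction (PicF.XTmap f g)).homEquiv _ _ (kapI g ret hr _).hom

omit P in
theorem map_rhoF {M : (PicF.XT f (Over.mk s)).Modules} (φ : M ⟶ cokernel K₀.arrow) :
    (Scheme.Modules.pullback (PicF.XTmap f ret)).map φ ≫ rhoF g ret hr K₀ =
      (Scheme.Modules.pullbackPushforwardAdjunction (PicF.XTmap f g)).homEquiv _ _ ((kapI g ret hr M).hom ≫ φ) := by
  rw [rhoF, ← Adjunction.homEquiv_naturality_left, kapI_natural]

theorem isScal_rhoF {r : GK g g (Quo.ofSub K₀) ⟶ cokernel K₀.arrow}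
    {u : (Scheme.Modules.pushforward (PicF.XTmap f g)).obj (cokernel K₀.arrow) ⟶ (liftQ r).F}
    (hu : nu g K₀ ≫ u = scB (pr f b) t _ ≫ (liftQ r).q) :
    IsScal ret K₀ t (liftQ r) (rhoF g ret hr K₀ ≫ u) := by
  rw [IsScal, ← Category.assoc, map_rhoF, qmap, Category.assoc, ← scB_comp, ← hu, nu, ← Category.assoc,
    ← Adjunction.homEquiv_naturality_left, q₀, ← Category.assoc ((Scheme.Modules.pullback (PicF.XTmap f g)).map _),
    map_ETiso_comp g ret hr]

theorem thetaQ_liftQ {r : GK g g (Quo.ofSub K₀) ⟶ cokernel K₀.arrow}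
    {u : (Scheme.Modules.pushforward (PicF.XTmap f g)).obj (cokernel K₀.arrow) ⟶ (liftQ r).F}
    (hu : retR r ≫ u = kernel.ι (pushMap g (Quo.ofSub K₀)) ≫ (liftQ r).q) :
    thetaQ ret K₀ (liftQ r) =
      (Scheme.Modules.pullback (PicF.XTmap f ret)).map (secT g ret hr K₀ P ≫ r) ≫ rhoF g ret hr K₀ ≫ u := by
  rw [← Category.assoc _ (rhoF g ret hr K₀), map_rhoF, thetaQ, qmap, ← Category.assoc]
  rw [show (Scheme.Modules.pullback (PicF.XTmap f ret)).map K₀.arrow ≫ (FGA.ETiso f E ret).hom =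
    thetaP g ret hr K₀ P ≫ kernel.ι (pushMap g (Quo.ofSub K₀)) from (kernel.lift_ι _ _ _).symm, Category.assoc, ← hu,
    secT, Category.assoc, Iso.hom_inv_id_assoc, retR, ← Category.assoc, ← Adjunction.homEquiv_naturality_left]

theorem tan_liftQ {r : GK g g (Quo.ofSub K₀) ⟶ cokernel K₀.arrow} (h : sigma P ≫ r = 𝟙 _) :
    Tan ret K₀ t (liftQ r) (secT g ret hr K₀ P ≫ r) := by
  obtain ⟨u, h1, h2, -⟩ := exists_u g ret hr K₀ P h
  exact ⟨_, isScal_rhoF g ret hr K₀ P h2, thetaQ_liftQ g ret hr K₀ P h1⟩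

theorem tan_unique_liftQ {r : GK g g (Quo.ofSub K₀) ⟶ cokernel K₀.arrow} (h : sigma P ≫ r = 𝟙 _)
    {φ : Subobject.underlying.obj K₀ ⟶ cokernel K₀.arrow} (hφ : Tan ret K₀ t (liftQ r) φ) :
    φ = secT g ret hr K₀ P ≫ r := by
  obtain ⟨u, h1, h2, hu⟩ := exists_u g ret hr K₀ P h
  obtain ⟨w, hw, hθ⟩ := hφ
  rw [hw.eq (isScal_rhoF g ret hr K₀ P h2), thetaQ_liftQ g ret hr K₀ P h1, ← Category.assoc _ (rhoF g ret hr K₀) u,
    ← Category.assoc _ (rhoF g ret hr K₀) u, cancel_mono, map_rhoF, map_rhoF, Equiv.apply_eq_iff_eq,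
    cancel_epi] at hθ
  exact hθ.symm

/-- Every flat lift has a tangent. -/
theorem exists_tan {Q : Quo f E (Over.mk b)} (hflat : FlatMod.IsFlatOver (pr f b) Q.F)
    (hQ : (Q.pull g).Rel (Quo.ofSub K₀)) : ∃ φ, Tan ret K₀ t Q φ := by
  obtain ⟨r, h, hr'⟩ := exists_retr_of_lift P Q hflat hQ
  exact ⟨_, (tan_liftQ g ret hr K₀ P h).of_rel hr'.symm⟩

theorem tan_unique {Q : Quo f E (Over.mk b)} (hflat : FlatMod.IsFlatOver (pr f b) Q.F)
    (hQ : (Q.pull g).Rel (Quo.ofSub K₀)) {φ φ' : Subobject.underlying.obj K₀ ⟶ cokernel K₀.arrow}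
    (h : Tan ret K₀ t Q φ) (h' : Tan ret K₀ t Q φ') : φ = φ' := by
  obtain ⟨r, hs, hr'⟩ := exists_retr_of_lift P Q hflat hQ
  rw [tan_unique_liftQ g ret hr K₀ P hs (h.of_rel hr'), tan_unique_liftQ g ret hr K₀ P hs (h'.of_rel hr')]

/-- The extension is split by the section. -/
def splitT : (ShortComplex.mk (sigma P) (rho' P) (sigma_rho' P)).Splitting :=
  haveI := (shortExact P).mono_f
  ShortComplex.Splitting.ofExactOfSection _ (shortExact P).exact (secT g ret hr K₀ P) (secT_rho g ret hr K₀ P) inferInstance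

theorem secT_r : secT g ret hr K₀ P ≫ (splitT g ret hr K₀ P).r = 0 := (splitT g ret hr K₀ P).s_r

/-- Every homomorphism is the tangent of a lift. -/
theorem exists_lift_tan (φ : Subobject.underlying.obj K₀ ⟶ cokernel K₀.arrow) :
    ∃ r : GK g g (Quo.ofSub K₀) ⟶ cokernel K₀.arrow, sigma P ≫ r = 𝟙 _ ∧ Tan ret K₀ t (liftQ r) φ := by
  have h1 : sigma P ≫ ((splitT g ret hr K₀ P).r + rho' P ≫ φ) = 𝟙 _ := by
    rw [Preadditive.comp_add, ← Category.assoc, sigma_rho', zero_comp, add_zero]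
    exact (splitT g ret hr K₀ P).f_r
  refine ⟨_, h1, ?_⟩
  have h2 := tan_liftQ g ret hr K₀ P h1
  rwa [Preadditive.comp_add, secT_r, zero_add, ← Category.assoc, secT_rho, Category.id_comp] at h2

/-- Every homomorphism is the tangent of a coherent flat lift. -/
theorem exists_fam_tan [IsLocallyNoetherian (PicF.XT f (Over.mk b))] (hE : Coh.IsCoh (FGA.ET f E (Over.mk b)))
    (h₀ : Coh.IsCoh (cokernel K₀.arrow)) (φ : Subobject.underlying.obj K₀ ⟶ cokernel K₀.arrow) :
    ∃ Q : Quo f E (Over.mk b), Q.IsFam ∧ (Q.pull g).Rel (Quo.ofSub K₀) ∧ Tan ret K₀ t Q φ := by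
  obtain ⟨r, h, hφ⟩ := exists_lift_tan g ret hr K₀ P φ
  exact ⟨liftQ r, ⟨isCoh_liftQ P hE h₀ r h₀.1, isFlatOver_liftQ P h⟩, rel_liftQ P h, hφ⟩

/-- Lifts with the same tangent agree. -/
theorem rel_of_tan {Q Q' : Quo f E (Over.mk b)} (hflat : FlatMod.IsFlatOver (pr f b) Q.F)
    (hQ : (Q.pull g).Rel (Quo.ofSub K₀)) (hflat' : FlatMod.IsFlatOver (pr f b) Q'.F)
    (hQ' : (Q'.pull g).Rel (Quo.ofSub K₀)) {φ : Subobject.underlying.obj K₀ ⟶ cokernel K₀.arrow}
    (h : Tan ret K₀ t Q φ) (h' : Tan ret K₀ t Q' φ) : Q.Rel Q' := by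
  obtain ⟨r, hs, hQr⟩ := exists_retr_of_lift P Q hflat hQ
  obtain ⟨r', hs', hQr'⟩ := exists_retr_of_lift P Q' hflat' hQ'
  have h1 : secT g ret hr K₀ P ≫ r = secT g ret hr K₀ P ≫ r' := by
    rw [← tan_unique_liftQ g ret hr K₀ P hs (h.of_rel hQr), ← tan_unique_liftQ g ret hr K₀ P hs' (h'.of_rel hQr')]
  have h2 : ∀ r : GK g g (Quo.ofSub K₀) ⟶ cokernel K₀.arrow,
      r = (splitT g ret hr K₀ P).r ≫ (sigma P ≫ r) + rho' P ≫ (secT g ret hr K₀ P ≫ r) := fun r => by
    conv_lhs => rw [← Category.id_comp r, ← (splitT g ret hr K₀ P).id]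
    rw [Preadditive.add_comp, Category.assoc, Category.assoc]
    rfl
  have h3 : r = r' := by rw [h2 r, h2 r', hs, hs', h1]
  subst h3
  exact hQr.trans hQr'.symm

end Small

end Groth.Agent.QuotInf

end
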