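import Groth.Agent.QuotInf.Nat
import Groth.Agent.QuotInf.Artin
import Mathlib.Algebra.DualNumber
import Mathlib.RingTheory.Artinian.Ring

/-!
First order points of the Quot functor and homomorphisms from the submodule to the quotient.
-/

set_option autoImplicit false
set_option linter.unusedSectionVars false
set_option linter.style.haveILetI false
set_option backward.isDefEq.respectTransparency false
set_option backward.isDefEq.respectTransparency.types false
set_option maxHeartbeats 1000000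

universe u

open CategoryTheory CategoryTheory.Limits AlgebraicGeometry TopologicalSpace
open Groth.Agent.QuotProj (Quo)
open IsLocalRing (maximalIdeal)
open TrivSqZeroExt (inl inr fst snd inlHom)

noncomputable section

namespace Groth.Agent.QuotInf

section Rings

variable (k : Type u) [Field k] (V : Type u) [AddCommGroup V] [Module k V] [Module kᵐᵒᵖ V] [IsCentralScalar k V]

/-- The augmentation of a square-zero extension. -/
abbrev aug : TrivSqZeroExt k V →+* k := (TrivSqZeroExt.fstHom k k V).toRingHom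

theorem aug_surjective : Function.Surjective (aug k V) := fun c => ⟨inl c, TrivSqZeroExt.fst_inl V c⟩

theorem aug_inlHom : (aug k V).comp (inlHom k V) = RingHom.id k :=
  RingHom.ext fun c => TrivSqZeroExt.fst_inl V c

instance isLocalRing_sqz : IsLocalRing (TrivSqZeroExt k V) :=
  IsLocalRing.of_isUnit_or_isUnit_one_sub_self fun a => by
    by_cases h : a.fst = 0
    · refine Or.inr (TrivSqZeroExt.isUnit_iff_isUnit_fst.2 ?_)
      simp [h]
    · exact Or.inl (TrivSqZeroExt.isUnit_iff_isUnit_fst.2 (isUnit_iff_ne_zero.2 h))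

theorem ker_aug : RingHom.ker (aug k V) = maximalIdeal (TrivSqZeroExt k V) :=
  IsLocalRing.eq_maximalIdeal (RingHom.ker_isMaximal_of_surjective _ (aug_surjective k V))

theorem fst_of_mem {x : TrivSqZeroExt k V} (hx : x ∈ maximalIdeal (TrivSqZeroExt k V)) : x.fst = 0 := by
  rw [← ker_aug] at hx
  exact hx

theorem isNilpotent_maximal : IsNilpotent (maximalIdeal (TrivSqZeroExt k V)) := by
  refine ⟨2, ?_⟩
  rw [pow_two, Ideal.zero_eq_bot, eq_bot_iff, Ideal.mul_le]
  intro a ha b hb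
  rw [Ideal.mem_bot]
  ext
  · simp [fst_of_mem k V ha]
  · simp [fst_of_mem k V ha, fst_of_mem k V hb]

theorem mul_inr_eq_zero {m : TrivSqZeroExt k V} (hm : m ∈ maximalIdeal (TrivSqZeroExt k V)) (v : V) :
    m * inr v = 0 := by
  ext <;> simp [fst_of_mem k V hm]

instance isNoetherian_sqz [Module.Finite k V] : IsNoetherianRing (TrivSqZeroExt k V) := by
  haveI : Module.Finite k (TrivSqZeroExt k V) := inferInstanceAs (Module.Finite k (k × V))
  exact IsNoetherianRing.of_finite k _

end Rings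

variable {k : Type u} [Field k]

/-- The map of square-zero extensions of a linear map. -/
abbrev sqzMap {V W : Type u} [AddCommGroup V] [Module k V] [Module kᵐᵒᵖ V] [IsCentralScalar k V] [AddCommGroup W]
    [Module k W] [Module kᵐᵒᵖ W] [IsCentralScalar k W] (L : V →ₗ[k] W) :
    TrivSqZeroExt k V →+* TrivSqZeroExt k W :=
  (TrivSqZeroExt.map L).toRingHom

theorem ext1Data_dual : Ext1Data (aug k k) (aug k k) (inr 1 : TrivSqZeroExt k k) where
  surjA := aug_surjective k k
  surjK := aug_surjective k k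
  kerA := by
    refine le_antisymm (fun x hx => Ideal.mem_span_singleton'.2 ⟨inl x.snd, ?_⟩) ?_
    · have hx' : x.fst = 0 := hx
      ext <;> simp [hx']
    · rw [Ideal.span_le, Set.singleton_subset_iff]
      exact TrivSqZeroExt.fst_inr k (1 : k)
  kerK := ker_aug k k
  nil := isNilpotent_maximal k k
  ne := fun h => one_ne_zero (congrArg TrivSqZeroExt.snd h)
  mem := by rw [← ker_aug]; exact TrivSqZeroExt.fst_inr k (1 : k)
  kill := fun m hm => mul_inr_eq_zero k k hm 1

variable {X S : Scheme.{u}} {f : X ⟶ S} {E : X.Modules} (s : Spec (CommRingCat.of k) ⟶ S)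

section Bases

variable (V : Type u) [AddCommGroup V] [Module k V] [Module kᵐᵒᵖ V] [IsCentralScalar k V]

/-- The structure morphism of a first order neighbourhood. -/
abbrev baseV : Spec (CommRingCat.of (TrivSqZeroExt k V)) ⟶ S :=
  Spec.map (CommRingCat.ofHom (inlHom k V)) ≫ s

/-- The first order neighbourhood over the base point. -/
abbrev retV : Over.mk (baseV s V) ⟶ Over.mk s := Over.homMk (Spec.map (CommRingCat.ofHom (inlHom k V))) rfl

/-- The base point in its first order neighbourhood. -/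
def pointV : Over.mk s ⟶ Over.mk (baseV s V) :=
  Over.homMk (Spec.map (CommRingCat.ofHom (aug k V))) (by
    show Spec.map (CommRingCat.ofHom (aug k V)) ≫ Spec.map (CommRingCat.ofHom (inlHom k V)) ≫ s = s
    rw [← Spec.map_comp_assoc, ← CommRingCat.ofHom_comp, aug_inlHom, CommRingCat.ofHom_id, Spec.map_id,
      Category.id_comp])

theorem pointV_left : (pointV s V).left = Spec.map (CommRingCat.ofHom (aug k V)) := rfl

theorem pointV_ret : pointV s V ≫ retV s V = 𝟙 _ := by
  refine Over.OverMorphism.ext ?_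
  show Spec.map (CommRingCat.ofHom (aug k V)) ≫ Spec.map (CommRingCat.ofHom (inlHom k V)) = _
  rw [← Spec.map_comp, ← CommRingCat.ofHom_comp, aug_inlHom, CommRingCat.ofHom_id, Spec.map_id]
  rfl

variable {V} {W : Type u} [AddCommGroup W] [Module k W] [Module kᵐᵒᵖ W] [IsCentralScalar k W]

theorem sqzMap_inlHom (L : V →ₗ[k] W) : (sqzMap L).comp (inlHom k V) = inlHom k W :=
  RingHom.ext fun c => TrivSqZeroExt.map_inl L c

theorem aug_sqzMap (L : V →ₗ[k] W) : (aug k W).comp (sqzMap L) = aug k V :=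
  RingHom.ext fun c => TrivSqZeroExt.fst_map L c

/-- The map of first order neighbourhoods of a linear map. -/
def mapV (L : V →ₗ[k] W) : Over.mk (baseV s W) ⟶ Over.mk (baseV s V) :=
  Over.homMk (Spec.map (CommRingCat.ofHom (sqzMap L))) (by
    show Spec.map (CommRingCat.ofHom (sqzMap L)) ≫ Spec.map (CommRingCat.ofHom (inlHom k V)) ≫ s = _
    rw [← Spec.map_comp_assoc, ← CommRingCat.ofHom_comp, sqzMap_inlHom]
    rfl)

theorem mapV_left (L : V →ₗ[k] W) : (mapV s L).left = Spec.map (CommRingCat.ofHom (sqzMap L)) := rfl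

theorem mapV_ret (L : V →ₗ[k] W) : mapV s L ≫ retV s V = retV s W := by
  refine Over.OverMorphism.ext ?_
  show Spec.map (CommRingCat.ofHom (sqzMap L)) ≫ Spec.map (CommRingCat.ofHom (inlHom k V)) = _
  rw [← Spec.map_comp, ← CommRingCat.ofHom_comp, sqzMap_inlHom]
  rfl

theorem pointV_mapV (L : V →ₗ[k] W) : pointV s W ≫ mapV s L = pointV s V := by
  refine Over.OverMorphism.ext ?_
  show Spec.map (CommRingCat.ofHom (aug k W)) ≫ Spec.map (CommRingCat.ofHom (sqzMap L)) = _
  rw [← Spec.map_comp, ← CommRingCat.ofHom_comp, aug_sqzMap]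
  rfl

instance (V : Type u) [AddCommGroup V] [Module k V] [Module kᵐᵒᵖ V] [IsCentralScalar k V] [Module.Finite k V] :
    IsLocallyNoetherian (Over.mk (baseV s V)).left :=
  inferInstanceAs (IsLocallyNoetherian (Spec (CommRingCat.of (TrivSqZeroExt k V))))

end Bases

section Points

variable [LocallyOfFiniteType f] {Q : Over S} (Ku : FGA.QuotSet f E Q)
  {K₀ : FGA.QuotSet f E (Over.mk s)} (g : Over.mk s ⟶ Q) (hg : FGA.quotPull f E g Ku.1 = K₀.1)
variable {V : Type u} [AddCommGroup V] [Module k V] [Module kᵐᵒᵖ V] [IsCentralScalar k V] [Module.Finite k V]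

/-- The family of a point in a first order neighbourhood. -/
abbrev famV (γ : Over.mk (baseV s V) ⟶ Q) : Quo f E (Over.mk (baseV s V)) := Quo.ofSub (qpull γ Ku).1

theorem flat_famV (γ : Over.mk (baseV s V) ⟶ Q) :
    FlatMod.IsFlatOver (pr f (baseV s V)) (famV s Ku γ).F := (qpull γ Ku).2.2

include hg in
theorem famV_rel {γ : Over.mk (baseV s V) ⟶ Q} (hγ : pointV s V ≫ γ = g) :
    ((famV s Ku γ).pull (pointV s V)).Rel (Quo.ofSub K₀.1) :=
  rel_of_quotPull (by rw [qpull_val, quotPull_comp, hγ, hg])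

theorem famV_map {W : Type u} [AddCommGroup W] [Module k W] [Module kᵐᵒᵖ W] [IsCentralScalar k W] [Module.Finite k W]
    (L : V →ₗ[k] W) (γ : Over.mk (baseV s V) ⟶ Q) :
    ((famV s Ku γ).pull (mapV s L)).Rel (famV s Ku (mapV s L ≫ γ)) :=
  rel_of_quotPull (by rw [qpull_val, qpull_val, quotPull_comp])

end Points

section Dual

variable [LocallyOfFiniteType f] (hEc : Coh.IsCoh E) (hEf : FlatMod.IsFlatOver f E) {Q : Over S}
  (Ku : FGA.QuotSet f E Q) {K₀ : FGA.QuotSet f E (Over.mk s)} (g : Over.mk s ⟶ Q)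
  (hg : FGA.quotPull f E g Ku.1 = K₀.1)

include hEf in
theorem prob_dual (K₀ : Subobject (FGA.ET f E (Over.mk s))) :
    Prob (aug k k) (aug k k) (inr 1) (pointV s k) (pointV s k) (Quo.ofSub K₀) K₀ where
  ext1 := ext1Data_dual
  hg := pointV_left s k
  hg₁ := pointV_left s k
  flat := ⟨flat_ET hEf _, flatOver_field _ _⟩
  rel := rel_pull_of_adjunct (pointV s k) (pointV_left s k) ext1Data_dual.surjA _
    (pushQ (pointV s k) (pointV_left s k) ext1Data_dual.surjA ext1Data_dual.nilA (Quo.ofSub K₀)) (𝟙 _)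
    (Category.comp_id _) fun y w hw => by
      rw [CategoryTheory.Functor.map_id] at hw
      rw [show w = 0 from hw]
      exact zero_mem _

/-- The tangent of a point. -/
abbrev IsTangent (γ : Over.mk (baseV s k) ⟶ Q) (φ : Subobject.underlying.obj K₀.1 ⟶ cokernel K₀.1.arrow) : Prop :=
  Tan (retV s k) K₀.1 (inr 1) (famV s Ku γ) φ

include hEf hg

theorem exists_isTangent {γ : Over.mk (baseV s k) ⟶ Q} (hγ : pointV s k ≫ γ = g) :
    ∃ φ, IsTangent s Ku (K₀ := K₀) γ φ :=
  exists_tan _ _ (pointV_ret s k) K₀.1 (prob_dual s hEf K₀.1) (flat_famV s Ku γ) (famV_rel s Ku g hg hγ)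

theorem isTangent_unique {γ : Over.mk (baseV s k) ⟶ Q} (hγ : pointV s k ≫ γ = g)
    {φ φ' : Subobject.underlying.obj K₀.1 ⟶ cokernel K₀.1.arrow} (h : IsTangent s Ku γ φ) (h' : IsTangent s Ku γ φ') :
    φ = φ' :=
  tan_unique _ _ (pointV_ret s k) K₀.1 (prob_dual s hEf K₀.1) (flat_famV s Ku γ) (famV_rel s Ku g hg hγ) h h'

theorem eq_of_isTangent (hQ : FGA.QuotRepresentedBy f E Q Ku) {γ γ' : Over.mk (baseV s k) ⟶ Q}
    (hγ : pointV s k ≫ γ = g) (hγ' : pointV s k ≫ γ' = g)
    {φ : Subobject.underlying.obj K₀.1 ⟶ cokernel K₀.1.arrow} (h : IsTangent s Ku γ φ)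
    (h' : IsTangent s Ku γ' φ) : γ = γ' := by
  have h1 := rel_of_tan _ _ (pointV_ret s k) K₀.1 (prob_dual s hEf K₀.1) (flat_famV s Ku γ) (famV_rel s Ku g hg hγ)
    (flat_famV s Ku γ') (famV_rel s Ku g hg hγ') h h'
  rw [← Quo.sub_eq_iff, Quo.sub_ofSub, Quo.sub_ofSub, qpull_val, qpull_val] at h1
  exact (hQ.2 _ (qpull γ' Ku)).unique (h1.trans (qpull_val γ' Ku).symm) (qpull_val γ' Ku).symm

include hEc in
theorem exists_point_tangent (hQ : FGA.QuotRepresentedBy f E Q Ku)
    (φ : Subobject.underlying.obj K₀.1 ⟶ cokernel K₀.1.arrow) :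
    ∃ γ : Over.mk (baseV s k) ⟶ Q, pointV s k ≫ γ = g ∧ IsTangent s Ku γ φ := by
  haveI := QuotProj.isLocallyNoetherian_XT (f := f) (Over.mk (baseV s k))
  haveI : IsLocallyNoetherian (Over.mk s).left := inferInstanceAs (IsLocallyNoetherian (Spec (CommRingCat.of k)))
  obtain ⟨a, hfam, hrel, hφ⟩ := exists_fam_tan _ _ (pointV_ret s k) K₀.1 (prob_dual s hEf K₀.1)
    (QuotProj.isCoh_ET hEc _) K₀.2.1 φ
  obtain ⟨γ, hγ, -⟩ := hQ.2 (Over.mk (baseV s k)) (a.toSet hfam)
  refine ⟨γ, (hQ.2 _ K₀).unique ?_ hg, hφ.of_rel ?_⟩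
  · rw [← quotPull_comp, hγ]
    exact (Quo.quotPull_eq_iff _ _ _).2 hrel
  · rw [← Quo.sub_eq_iff, Quo.sub_ofSub, qpull_val, hγ]
    rfl

theorem isTangent_smul {γ : Over.mk (baseV s k) ⟶ Q} (hγ : pointV s k ≫ γ = g) (c : k)
    {φ : Subobject.underlying.obj K₀.1 ⟶ cokernel K₀.1.arrow} (h : IsTangent s Ku γ φ) :
    IsTangent s Ku (mapV s (c • LinearMap.id) ≫ γ) (scB (pr f s) c _ ≫ φ) := by
  have hrel : (((famV s Ku γ).pull (mapV s (c • LinearMap.id))).pull (pointV s k)).Rel (Quo.ofSub K₀.1) :=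
    (Quo.pull_pull _ _ _).trans (by rw [pointV_mapV]; exact famV_rel s Ku g hg hγ)
  obtain ⟨w, hw⟩ := exists_isScal (pointV s k) (retV s k) (pointV_ret s k) K₀.1 (pointV_left s k)
    (aug_surjective k k) (ker_aug k k) (isNilpotent_maximal k k) hrel (ε := inr 1)
    (fun m hm => mul_inr_eq_zero k k hm 1)
  refine Tan.of_rel ?_ (famV_map s Ku _ γ)
  refine tan_smul (sect := inlHom k k) rfl (mapV_left s _) (mapV_ret s _) ?_ h hw
  show TrivSqZeroExt.map _ (inr 1) = inl c * inr 1
  rw [TrivSqZeroExt.map_inr, TrivSqZeroExt.inl_mul_inr]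
  rfl

theorem isTangent_add {γ : Over.mk (baseV s (k × k)) ⟶ Q} (hγ : pointV s (k × k) ≫ γ = g)
    {φ₁ φ₂ : Subobject.underlying.obj K₀.1 ⟶ cokernel K₀.1.arrow}
    (h₁ : IsTangent s Ku (mapV s (LinearMap.fst k k k) ≫ γ) φ₁)
    (h₂ : IsTangent s Ku (mapV s (LinearMap.snd k k k) ≫ γ) φ₂) :
    IsTangent s Ku (mapV s (LinearMap.fst k k k + LinearMap.snd k k k) ≫ γ) (φ₁ + φ₂) := by
  have hs : ∀ (L : k × k →ₗ[k] k), Function.Surjective L → Function.Surjective (sqzMap L) := fun L hL x => by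
    obtain ⟨v, hv⟩ := hL x.snd
    refine ⟨inl x.fst + inr v, ?_⟩
    show TrivSqZeroExt.map L (inl x.fst + inr v) = x
    ext <;> simp [hv]
  refine Tan.of_rel ?_ (famV_map s Ku _ γ)
  refine tan_add (pointV s (k × k)) (pointV_ret s _) (pointV_left s _) (aug_surjective k _) (ker_aug k _)
    (isNilpotent_maximal k _) (t₁ := inr (1, 0)) (t₂ := inr (0, 1)) (fun m hm => mul_inr_eq_zero k _ hm _)
    (fun m hm => mul_inr_eq_zero k _ hm _) (hs _ LinearMap.fst_surjective) (hs _ LinearMap.snd_surjective) ?_ ?_ ?_ ?_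
    ?_ ?_ ?_ (mapV_left s _) (mapV_left s _) (mapV_left s _) (mapV_ret s _) (mapV_ret s _) (mapV_ret s _)
    (flat_famV s Ku γ) (famV_rel s Ku g hg hγ) (h₁.of_rel (famV_map s Ku _ γ).symm)
    (h₂.of_rel (famV_map s Ku _ γ).symm)
  iterate 6 (show TrivSqZeroExt.map _ (inr _) = _; rw [TrivSqZeroExt.map_inr]; simp)
  intro M _ _ _ x hx₁ hx₂
  haveI : Module.Free (TrivSqZeroExt k (k × k)) M := ArtFlat.free_of_flat (isNilpotent_maximal k _) M
  let bM := Module.Free.chooseBasis (TrivSqZeroExt k (k × k)) M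
  have key : ∀ (L : k × k →ₗ[k] k) (x : M), x ∈ RingHom.ker (sqzMap L) • (⊤ : Submodule _ M) →
      ∀ i, bM.repr x i ∈ RingHom.ker (sqzMap L) := fun L x hx i => by
    induction hx using Submodule.smul_induction_on' with
    | smul c hc m _ =>
      rw [map_smul, Finsupp.smul_apply, smul_eq_mul]
      exact Ideal.mul_mem_right _ _ hc
    | add a _ b _ ha hb =>
      rw [map_add, Finsupp.add_apply]
      exact add_mem ha hb
  refine bM.repr.injective (Finsupp.ext fun i => ?_)
  rw [map_zero, Finsupp.zero_apply]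
  have e1 := key _ x hx₁ i
  have e2 := key _ x hx₂ i
  generalize bM.repr x i = z at e1 e2 ⊢
  have a1 : TrivSqZeroExt.map (LinearMap.fst k k k) z = 0 := e1
  have a2 : TrivSqZeroExt.map (LinearMap.snd k k k) z = 0 := e2
  ext
  · simpa using congrArg TrivSqZeroExt.fst a1
  · simpa using congrArg TrivSqZeroExt.snd a1
  · simpa using congrArg TrivSqZeroExt.snd a2

end Dual

end Groth.Agent.QuotInf

end
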