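import Groth.Agent.QuotInf.Setup

/-!
Coherence of the comparison isomorphisms and transfer of maps between base changes.
-/

set_option autoImplicit false
set_option linter.unusedSectionVars false
set_option linter.style.haveILetI false
set_option backward.isDefEq.respectTransparency false
set_option backward.isDefEq.respectTransparency.types false
set_option maxHeartbeats 1000000

universe u

open CategoryTheory CategoryTheory.Limits AlgebraicGeometry TopologicalSpace Opposite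
open Groth.Agent.QuotProj (Quo)

noncomputable section

namespace Groth.Agent.QuotInf

/-- The comparison of iterated inverse images. -/
irreducible_def PI {W Y Z : Scheme.{u}} {h : W ⟶ Y} {p : Y ⟶ Z} {k : W ⟶ Z} (hk : h ≫ p = k) :
    Scheme.Modules.pullback p ⋙ Scheme.Modules.pullback h ≅ Scheme.Modules.pullback k :=
  Scheme.Modules.pullbackComp h p ≪≫ Scheme.Modules.pullbackCongr hk

/-- The inverse image along an identity. -/
irreducible_def PIid {Y : Scheme.{u}} {k : Y ⟶ Y} (hk : k = 𝟙 Y) : Scheme.Modules.pullback k ≅ 𝟭 _ :=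
  Scheme.Modules.pullbackCongr hk ≪≫ Scheme.Modules.pullbackId Y

theorem PI_natural {W Y Z : Scheme.{u}} {h : W ⟶ Y} {p : Y ⟶ Z} {k : W ⟶ Z} (hk : h ≫ p = k)
    {M N : Z.Modules} (φ : M ⟶ N) :
    (Scheme.Modules.pullback h).map ((Scheme.Modules.pullback p).map φ) ≫ (PI hk).hom.app N =
      (PI hk).hom.app M ≫ (Scheme.Modules.pullback k).map φ :=
  (PI hk).hom.naturality φ

theorem pullback_map_scal {W Y : Scheme.{u}} (c : W ⟶ Y) (a : Γ(Y, ⊤)) (M : Y.Modules) :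
    (Scheme.Modules.pullback c).map (PicBdd.scal a M) = PicBdd.scal (c.appTop a) _ := by
  let adj := Scheme.Modules.pullbackPushforwardAdjunction c
  apply (adj.homEquiv _ _).injective
  have h1 : ∀ N : W.Modules, (Scheme.Modules.pushforward c).map (PicBdd.scal (c.appTop a) N) =
      PicBdd.scal a ((Scheme.Modules.pushforward c).obj N) := fun N => by
    refine Scheme.Modules.hom_ext _ _ fun U => ?_
    ext m
    show (W.presheaf.map (homOfLE (le_top : c ⁻¹ᵁ U ≤ ⊤)).op (c.appTop a)) • (show Γ(N, c ⁻¹ᵁ U) from m) =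
      (c.app U (Y.presheaf.map (homOfLE (le_top : U ≤ ⊤)).op a)) • (show Γ(N, c ⁻¹ᵁ U) from m)
    congr 1
    exact (congrArg (fun F => F a) (c.naturality (homOfLE (le_top : U ≤ ⊤)).op)).symm
  rw [Adjunction.homEquiv_unit, Adjunction.homEquiv_unit, h1]
  exact (adj.unit.naturality _).symm.trans (PicBdd.scal_comp _ _)

theorem pullback_map_scB {W Y : Scheme.{u}} {B A : Type u} [CommRing B] [CommRing A] {φ : B →+* A}
    {p : Y ⟶ Spec (CommRingCat.of B)} {q : W ⟶ Spec (CommRingCat.of A)} {c : W ⟶ Y}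
    (h : c ≫ p = q ≫ Spec.map (CommRingCat.ofHom φ)) (b : B) (M : Y.Modules) :
    (Scheme.Modules.pullback c).map (scB p b M) = scB q (φ b) ((Scheme.Modules.pullback c).obj M) := by
  rw [scB, scB, pullback_map_scal]
  congr 1
  show c.appTop (p.appTop ((Scheme.ΓSpecIso (CommRingCat.of B)).inv b)) =
    q.appTop ((Scheme.ΓSpecIso (CommRingCat.of A)).inv (φ b))
  rw [← ConcreteCategory.comp_apply, ← Scheme.Hom.comp_appTop, h, Scheme.Hom.comp_appTop, ConcreteCategory.comp_apply]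
  exact congrArg (fun v => q.appTop v)
    (congrArg (fun F => F b) (Scheme.ΓSpecIso_inv_naturality (CommRingCat.ofHom φ))).symm

theorem bc_id_app {Y Z : Scheme.{u}} {π : Y ⟶ Z} {M : Z.Modules} {Q : Y.Modules} {h : Y ⟶ Y}
    (e : h = 𝟙 Y) (hg : h ≫ π = π) (q : (Scheme.Modules.pullback π).obj M ⟶ Q) :
    QuotProj.bc hg q ≫ (PIid e).hom.app Q = q := by
  subst e
  rw [PIid_def, Iso.trans_hom, NatTrans.comp_app]
  simp only [Scheme.Modules.pullbackCongr, eqToIso_refl, Iso.refl_hom, NatTrans.id_app, Category.id_comp]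
  exact GrassBC.quotBC_id q

theorem bc_bc_app {W Y Y' Z : Scheme.{u}} {π : Y ⟶ Z} {π' : Y' ⟶ Z} {g : W ⟶ Z} {M : Z.Modules}
    {Q : Y.Modules} {h : W ⟶ Y'} {p : Y' ⟶ Y} {k : W ⟶ Y} (hp : p ≫ π = π') (hh : h ≫ π' = g) (hk : h ≫ p = k)
    (hkπ : k ≫ π = g) (q : (Scheme.Modules.pullback π).obj M ⟶ Q) :
    QuotProj.bc hh (QuotProj.bc hp q) ≫ (PI hk).hom.app Q = QuotProj.bc hkπ q := by
  rw [PI_def]
  exact GrassBC.quotBC_quotBC hp hh hk hkπ q

/-- The comparison of inverse images of a module. -/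
abbrev cmpI {W Y Z : Scheme.{u}} {π : Y ⟶ Z} {h : W ⟶ Y} {g : W ⟶ Z} (hg : h ≫ π = g) (M : Z.Modules) :
    (Scheme.Modules.pullback h).obj ((Scheme.Modules.pullback π).obj M) ≅ (Scheme.Modules.pullback g).obj M :=
  (Scheme.Modules.pullbackComp h π).app M ≪≫ (Scheme.Modules.pullbackCongr hg).app M

theorem cmpI_bc {W Y Z : Scheme.{u}} {π : Y ⟶ Z} {h : W ⟶ Y} {g : W ⟶ Z} (hg : h ≫ π = g) (M : Z.Modules) :
    (cmpI hg M).hom ≫ QuotProj.bc hg (𝟙 ((Scheme.Modules.pullback π).obj M)) = 𝟙 _ :=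
  (bc_cancel hg _).trans (CategoryTheory.Functor.map_id _ _)

theorem cmpI_id {Y Z : Scheme.{u}} {π : Y ⟶ Z} {h : Y ⟶ Y} (e : h = 𝟙 Y) (hg : h ≫ π = π) (M : Z.Modules) :
    (cmpI hg M).hom = (PIid e).hom.app ((Scheme.Modules.pullback π).obj M) := by
  rw [← Category.comp_id (cmpI hg M).hom, ← bc_id_app e hg (𝟙 ((Scheme.Modules.pullback π).obj M)),
    ← Category.assoc, cmpI_bc, Category.id_comp]

theorem cmpI_comp {W Y Y' Z : Scheme.{u}} {π : Y ⟶ Z} {π' : Y' ⟶ Z} {g : W ⟶ Z} {h : W ⟶ Y'} {p : Y' ⟶ Y}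
    {k : W ⟶ Y} (hp : p ≫ π = π') (hh : h ≫ π' = g) (hk : h ≫ p = k) (hkπ : k ≫ π = g) (M : Z.Modules) :
    (Scheme.Modules.pullback h).map (cmpI hp M).hom ≫ (cmpI hh M).hom =
      (PI hk).hom.app ((Scheme.Modules.pullback π).obj M) ≫ (cmpI hkπ M).hom := by
  haveI : IsIso (QuotProj.bc hkπ (𝟙 ((Scheme.Modules.pullback π).obj M))) :=
    IsIso.of_isIso_fac_left (h := 𝟙 _) (cmpI_bc hkπ M)
  rw [← cancel_mono (QuotProj.bc hkπ (𝟙 ((Scheme.Modules.pullback π).obj M))), Category.assoc, Category.assoc,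
    cmpI_bc, Category.comp_id, ← bc_bc_app hp hh hk hkπ (𝟙 _)]
  rw [← Category.assoc ((cmpI hh M).hom), bc_cancel hh, ← Category.assoc, ← Functor.map_comp, cmpI_bc,
    CategoryTheory.Functor.map_id, Category.id_comp]

variable {X S : Scheme.{u}} {f : X ⟶ S} {E : X.Modules}

theorem ETiso_eq {T T' : Over S} (g : T' ⟶ T) : FGA.ETiso f E g = cmpI (FGA.XTmap_fst f g) E := rfl

/-- The identity comparison. -/
theorem ETiso_id {T : Over S} :
    (FGA.ETiso f E (𝟙 T)).hom = (PIid QuotProj.XTmap_id).hom.app (FGA.ET f E T) := by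
  rw [ETiso_eq]
  exact cmpI_id QuotProj.XTmap_id (FGA.XTmap_fst f (𝟙 T)) E

/-- Coherence of the comparison. -/
theorem ETiso_comp {T T' T'' : Over S} (h : T'' ⟶ T') (g : T' ⟶ T) {l : T'' ⟶ T} (hl : h ≫ g = l) :
    (Scheme.Modules.pullback (PicF.XTmap f h)).map (FGA.ETiso f E g).hom ≫ (FGA.ETiso f E h).hom =
      (PI (show PicF.XTmap f h ≫ PicF.XTmap f g = PicF.XTmap f l by rw [← QuotProj.XTmap_comp, hl])).hom.app _ ≫
        (FGA.ETiso f E l).hom := by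
  rw [ETiso_eq g, ETiso_eq h, ETiso_eq l]
  exact cmpI_comp (FGA.XTmap_fst f g) (FGA.XTmap_fst f h) _ (FGA.XTmap_fst f l) E

/-- Transfer of a map out of an inverse image to a smaller base. -/
def tr {T₀ T₁ T₂ : Over S} {h : T₁ ⟶ T₂} {r₂ : T₂ ⟶ T₀} {r₁ : T₁ ⟶ T₀} (e : h ≫ r₂ = r₁)
    {F₂ : (PicF.XT f T₂).Modules} {F₁ : (PicF.XT f T₁).Modules}
    (i : (Scheme.Modules.pullback (PicF.XTmap f h)).obj F₂ ⟶ F₁) {M : (PicF.XT f T₀).Modules}
    (ψ : (Scheme.Modules.pullback (PicF.XTmap f r₂)).obj M ⟶ F₂) :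
    (Scheme.Modules.pullback (PicF.XTmap f r₁)).obj M ⟶ F₁ :=
  (PI (show PicF.XTmap f h ≫ PicF.XTmap f r₂ = PicF.XTmap f r₁ by rw [← QuotProj.XTmap_comp, e])).inv.app M ≫
    (Scheme.Modules.pullback (PicF.XTmap f h)).map ψ ≫ i

section Tr

variable {T₀ T₁ T₂ : Over S} {h : T₁ ⟶ T₂} {r₂ : T₂ ⟶ T₀} {r₁ : T₁ ⟶ T₀} (e : h ≫ r₂ = r₁)
  {F₂ : (PicF.XT f T₂).Modules} {F₁ : (PicF.XT f T₁).Modules}
  (i : (Scheme.Modules.pullback (PicF.XTmap f h)).obj F₂ ⟶ F₁) {M N : (PicF.XT f T₀).Modules}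

theorem tr_map_comp (φ : M ⟶ N) (ψ : (Scheme.Modules.pullback (PicF.XTmap f r₂)).obj N ⟶ F₂) :
    tr e i ((Scheme.Modules.pullback (PicF.XTmap f r₂)).map φ ≫ ψ) =
      (Scheme.Modules.pullback (PicF.XTmap f r₁)).map φ ≫ tr e i ψ := by
  have hn := (PI (show PicF.XTmap f h ≫ PicF.XTmap f r₂ = PicF.XTmap f r₁ by
    rw [← QuotProj.XTmap_comp, e])).inv.naturality φ
  simp only [Functor.comp_map] at hn
  rw [tr, tr, Functor.map_comp, Category.assoc, ← Category.assoc, ← hn, Category.assoc]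

theorem tr_add (ψ ψ' : (Scheme.Modules.pullback (PicF.XTmap f r₂)).obj M ⟶ F₂) :
    tr e i (ψ + ψ') = tr e i ψ + tr e i ψ' := by
  haveI : (Scheme.Modules.pullback (PicF.XTmap f h)).Additive :=
    (Scheme.Modules.pullbackPushforwardAdjunction (PicF.XTmap f h)).left_adjoint_additive
  simp only [tr, Functor.map_add, Preadditive.add_comp, Preadditive.comp_add]

theorem tr_sub (ψ ψ' : (Scheme.Modules.pullback (PicF.XTmap f r₂)).obj M ⟶ F₂) :
    tr e i (ψ - ψ') = tr e i ψ - tr e i ψ' :=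
  eq_sub_of_add_eq ((tr_add e i _ _).symm.trans (by rw [sub_add_cancel]))

theorem tr_zero : tr e i (0 : (Scheme.Modules.pullback (PicF.XTmap f r₂)).obj M ⟶ F₂) = 0 := by
  have h0 := tr_add e i (M := M) 0 0
  rw [add_zero] at h0
  exact add_eq_left.1 h0.symm

theorem tr_eq_zero [Mono i] {ψ : (Scheme.Modules.pullback (PicF.XTmap f r₂)).obj M ⟶ F₂} (h0 : tr e i ψ = 0) :
    (Scheme.Modules.pullback (PicF.XTmap f h)).map ψ = 0 := by
  rw [tr, ← Category.assoc] at h0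
  have h1 := zero_of_comp_mono i h0
  exact zero_of_epi_comp _ h1

end Tr

/-- The restriction to the source and the quotient map. -/
abbrev qmap {T₀ T : Over S} (r : T ⟶ T₀) (Q : Quo f E T) :
    (Scheme.Modules.pullback (PicF.XTmap f r)).obj (FGA.ET f E T₀) ⟶ Q.F := (FGA.ETiso f E r).hom ≫ Q.q

theorem tr_qmap {T₀ T₁ T₂ : Over S} {h : T₁ ⟶ T₂} {r₂ : T₂ ⟶ T₀} {r₁ : T₁ ⟶ T₀} (e : h ≫ r₂ = r₁)
    {Q₂ : Quo f E T₂} {Q₁ : Quo f E T₁}
    (i : (Scheme.Modules.pullback (PicF.XTmap f h)).obj Q₂.F ⟶ Q₁.F) (hi : (Q₂.pull h).q ≫ i = Q₁.q) :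
    tr e i (qmap r₂ Q₂) = qmap r₁ Q₁ := by
  rw [tr, qmap, Functor.map_comp, ← ETiso_hom_comp_pull h Q₂, Category.assoc, Category.assoc,
    show (Q₂.pull h).q ≫ i = Q₁.q from hi, reassoc_of% (ETiso_comp (E := E) (f := f) h r₂ e), ← Category.assoc,
    Iso.inv_hom_id_app]
  exact Category.id_comp _

end Groth.Agent.QuotInf

end
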